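import Mathlib

/-!
# The numbers of totally isotropic subspaces of a symplectic space

`N q m d` is the number of `d`-dimensional totally isotropic subspaces of a `2m`-dimensional
symplectic space over `GF(q)`, given by its recursion.  We prove the two alternating sum
identities behind the count of the unipotent elements of `Sp_2m(q)`.
-/

set_option autoImplicit false

namespace Cfsg.Agent.Lib.SpUnipotent

open Finset

/-- The number of totally isotropic `d`-spaces in symplectic `2m`-space, as an integer. -/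
def N (q : ℤ) : ℕ → ℕ → ℤ
  | _, 0 => 1
  | 0, _ + 1 => 0
  | m + 1, d + 1 => q ^ (d + 1) * N q m (d + 1) + (q ^ (2 * m + 1 - d) + 1) * N q m d

variable (q : ℤ)

@[simp] theorem N_zero_right (m : ℕ) : N q m 0 = 1 := by cases m <;> rfl

theorem N_succ_succ (m d : ℕ) :
    N q (m + 1) (d + 1) = q ^ (d + 1) * N q m (d + 1) + (q ^ (2 * m + 1 - d) + 1) * N q m d := rfl

theorem N_eq_zero {m d : ℕ} (h : m < d) : N q m d = 0 := by
  induction m generalizing d with
  | zero => cases d with
    | zero => omega
    | succ d => rfl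
  | succ m ih => cases d with
    | zero => omega
    | succ d => rw [N_succ_succ, ih (by omega), ih (by omega)]; ring

theorem shift_of_step (m d : ℕ)
    (hstep : (q ^ (d + 1) - 1) * N q m (d + 1) = (q ^ (2 * (m - d)) - 1) * N q m d) :
    (q ^ (d + 1) - 1) * N q (m + 1) (d + 1) = (q ^ (2 * (m + 1)) - 1) * N q m d := by
  rcases le_or_gt d m with hdm | hdm
  · rw [N_succ_succ]
    have e1 : q ^ (d + 1) * q ^ (2 * (m - d)) = q ^ (2 * m + 1 - d) := by
      rw [← pow_add]; congr 1; omega
    have e2 : q ^ (d + 1) * q ^ (2 * m + 1 - d) = q ^ (2 * (m + 1)) := by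
      rw [← pow_add]; congr 1; omega
    linear_combination q ^ (d + 1) * hstep + N q m d * e1 + N q m d * e2
  · rw [N_eq_zero q (show m + 1 < d + 1 by omega), N_eq_zero q hdm]; ring

theorem step (hq : 2 ≤ q) : ∀ m d : ℕ,
    (q ^ (d + 1) - 1) * N q m (d + 1) = (q ^ (2 * (m - d)) - 1) * N q m d := by
  intro m
  induction m with
  | zero => intro d; simp [N_eq_zero]
  | succ m ih =>
    intro d
    cases d with
    | zero =>
      simpa using shift_of_step q m 0 (ih 0)
    | succ e =>
      have h1 := shift_of_step q m e (ih e)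
      have h2 := shift_of_step q m (e + 1) (ih (e + 1))
      have h3 := ih e
      have hne : q ^ (e + 1) - 1 ≠ 0 := by
        have : (1 : ℤ) < q ^ (e + 1) := one_lt_pow₀ (by linarith) (by omega)
        linarith
      rw [show m + 1 - (e + 1) = m - e by omega]
      apply mul_left_cancel₀ hne
      linear_combination (q ^ (e + 1) - 1) * h2 - (q ^ (2 * (m - e)) - 1) * h1
        + (q ^ (2 * (m + 1)) - 1) * h3

/-- Counting pairs of a subspace and a non-zero vector in it. -/
theorem shift (hq : 2 ≤ q) (m d : ℕ) :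
    (q ^ (d + 1) - 1) * N q (m + 1) (d + 1) = (q ^ (2 * (m + 1)) - 1) * N q m d :=
  shift_of_step q m d (step q hq m d)

theorem sum_succ_split (m : ℕ) (f : ℕ → ℤ) :
    ∑ d ∈ range (m + 2), f d * N q (m + 1) d =
      ∑ d ∈ range (m + 1),
        (f d * q ^ d + f (d + 1) * (q ^ (2 * m + 1 - d) + 1)) * N q m d := by
  rw [sum_range_succ' _ (m + 1)]
  simp only [N_succ_succ, N_zero_right, mul_add, sum_add_distrib, add_mul]
  have e : ∑ d ∈ range (m + 1), f d * q ^ d * N q m d =
      ∑ d ∈ range (m + 1), f (d + 1) * (q ^ (d + 1) * N q m (d + 1)) + f 0 * 1 := by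
    have := sum_range_succ' (fun d => f d * q ^ d * N q m d) (m + 1)
    rw [sum_range_succ _ (m + 1), N_eq_zero q (Nat.lt_succ_self m)] at this
    simpa [mul_assoc] using this
  rw [e]
  simp only [← mul_assoc]
  ring

/-- The weight of a `d`-dimensional subspace. -/
def w (d : ℕ) : ℤ := (-1) ^ d * q ^ d.choose 2

theorem w_succ (d : ℕ) : w q (d + 1) = -(q ^ d * w q d) := by
  rw [w, w, Nat.choose_succ_succ', Nat.choose_one_right, pow_add, pow_succ]
  ring

/-- The reduced Euler characteristic of the totally isotropic subspaces. -/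
theorem sum_w (m : ℕ) :
    ∑ d ∈ range (m + 1), w q d * N q m d = (-1) ^ m * q ^ m ^ 2 := by
  induction m with
  | zero => simp [w]
  | succ m ih =>
    rw [sum_succ_split]
    have : ∀ d ∈ range (m + 1),
        (w q d * q ^ d + w q (d + 1) * (q ^ (2 * m + 1 - d) + 1)) * N q m d =
          -q ^ (2 * m + 1) * (w q d * N q m d) := by
      intro d hd
      have hd' : d ≤ m := Nat.lt_succ_iff.mp (mem_range.mp hd)
      have e : q ^ d * q ^ (2 * m + 1 - d) = q ^ (2 * m + 1) := by
        rw [← pow_add]; congr 1; omega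
      rw [w_succ]
      linear_combination -(w q d * N q m d) * e
    rw [sum_congr rfl this, ← mul_sum, ih, show (m + 1) ^ 2 = m ^ 2 + (2 * m + 1) by ring,
      pow_add q (m ^ 2), pow_succ (-1 : ℤ)]
    ring

/-- The second alternating sum. -/
theorem sum_sq (m : ℕ) :
    ∑ d ∈ range (m + 1), (-1 : ℤ) ^ d * q ^ ((m - d) ^ 2) * N q m d = (-1) ^ m := by
  induction m with
  | zero => simp
  | succ m ih =>
    rw [sum_succ_split q m fun d => (-1 : ℤ) ^ d * q ^ ((m + 1 - d) ^ 2)]
    have : ∀ d ∈ range (m + 1),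
        ((-1 : ℤ) ^ d * q ^ ((m + 1 - d) ^ 2) * q ^ d +
          (-1 : ℤ) ^ (d + 1) * q ^ ((m + 1 - (d + 1)) ^ 2) * (q ^ (2 * m + 1 - d) + 1)) * N q m d =
          -((-1 : ℤ) ^ d * q ^ ((m - d) ^ 2) * N q m d) := by
      intro d hd
      have hd' : d ≤ m := Nat.lt_succ_iff.mp (mem_range.mp hd)
      obtain ⟨k, rfl⟩ : ∃ k, m = d + k := ⟨m - d, by omega⟩
      rw [show d + k + 1 - d = k + 1 by omega, show d + k + 1 - (d + 1) = k by omega,
        show 2 * (d + k) + 1 - d = d + 2 * k + 1 by omega, show d + k - d = k by omega]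
      ring
    rw [sum_congr rfl this, sum_neg_distrib, ih, pow_succ]
    ring

end Cfsg.Agent.Lib.SpUnipotent
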