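import Cfsg.Agent.Lib.Symplectic.Form
import Cfsg.Agent.Lib.SpUnipotent.Numeric

/-!
# Totally isotropic subspaces and their fixers

For a nondegenerate alternating form `B` on a finite space we count the totally isotropic
subspaces of each dimension, and express the number of `p`-elements of `Isom B` fixing such a
subspace pointwise through the number of `p`-elements of a smaller symplectic group.
-/

set_option autoImplicit false

namespace Cfsg.Agent.Lib.SpUnipotent

open Module Symplectic

universe u

variable {F : Type*} {V : Type u} [Field F] [AddCommGroup V] [Module F V]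
variable (B : V →ₗ[F] V →ₗ[F] F)

/-- `W` is totally isotropic. -/
def IsTI (W : Submodule F V) : Prop := ∀ x ∈ W, ∀ y ∈ W, B x y = 0

/-- The totally isotropic subspaces of dimension `d`. -/
abbrev TI (d : ℕ) : Type u := {W : Submodule F V // finrank F W = d ∧ IsTI B W}

/-- `g` has `p`-power order. -/
def PEl {G : Type*} [Monoid G] (p : ℕ) (g : G) : Prop := ∃ k, g ^ (p ^ k) = 1

/-- The `p`-elements fixing `W` pointwise. -/
abbrev Fixer (p : ℕ) (W : Submodule F V) :=
  {g : Isom B // (∀ x ∈ W, g • x = x) ∧ PEl p g}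

/-- The vectors orthogonal to `W`. -/
def orth (W : Submodule F V) : Submodule F V :=
  LinearMap.ker (W.subtype.dualMap.comp B.flip)

variable {B}

theorem mem_orth {W : Submodule F V} {x : V} : x ∈ orth B W ↔ ∀ w ∈ W, B w x = 0 := by
  rw [orth, LinearMap.mem_ker]
  constructor
  · intro h w hw; exact LinearMap.congr_fun h ⟨w, hw⟩
  · intro h; exact LinearMap.ext fun w => h w w.2

theorem isom_smul_smul (g : Isom B) (c : F) (x : V) : g • (c • x) = c • (g • x) := by
  rw [smul_comm]

variable (hB : IsSympForm B) {z v : V} (hzv : B z v = 1)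

section Finite

variable [Finite V] [Finite F]

omit [Finite F] in
include hB in
theorem finrank_orth (W : Submodule F V) : finrank F (orth B W) + finrank F W = finrank F V := by
  have : FiniteDimensional F V := Module.Finite.of_finite
  have hinj : Function.Injective B.flip := by
    rw [injective_iff_map_eq_zero]
    intro x hx
    refine hB.nondeg x fun y => hB.comm_eq_zero.mp ?_
    exact LinearMap.congr_fun hx y
  have hsurj : Function.Surjective B.flip :=
    (LinearMap.injective_iff_surjective_of_finrank_eq_finrank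
      Subspace.dual_finrank_eq.symm).mp hinj
  have h2 : Function.Surjective (W.subtype.dualMap.comp B.flip) :=
    (LinearMap.dualMap_surjective_of_injective W.injective_subtype).comp hsurj
  have := LinearMap.finrank_range_add_finrank_ker (W.subtype.dualMap.comp B.flip)
  rw [LinearMap.range_eq_top.mpr h2, finrank_top, Subspace.dual_finrank_eq] at this
  rw [← this, orth, add_comm]

omit [Finite F] in
theorem card_sub {q : ℕ} (hq : Nat.card F = q) (W : Submodule F V) :
    Nat.card W = q ^ finrank F W := by
  have : FiniteDimensional F V := Module.Finite.of_finite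
  rw [← hq, Module.natCard_eq_pow_finrank (K := F)]

end Finite

include hB in
theorem pairProj_left : pairProj hB hzv z = 0 := by
  apply Subtype.ext; simp [coe_pairProj, hzv, hB.self]

include hB in
theorem coe_pairProj_of_perp {x : V} (hx : B x z = 0) :
    (pairProj hB hzv x : V) = x - B x v • z := by
  simp [coe_pairProj, hx]

include hB in
theorem eq_pairProj_add {x : V} (hx : B x z = 0) :
    x = (pairProj hB hzv x : V) + B x v • z := by
  rw [coe_pairProj_of_perp hB hzv hx, sub_add_cancel]

/-! ### Subspaces through a vector -/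

/-- The subspace through `z` over a subspace of the perpendicular. -/
def up (z v : V) (W₀ : Submodule F (pairPerp B z v)) : Submodule F V :=
  W₀.map (pairPerp B z v).subtype ⊔ F ∙ z

/-- The trace of a subspace on the perpendicular. -/
def down (z v : V) (W : Submodule F V) : Submodule F (pairPerp B z v) :=
  W.comap (pairPerp B z v).subtype

theorem mem_up {W₀ : Submodule F (pairPerp B z v)} {x : V} :
    x ∈ up z v W₀ ↔ ∃ w ∈ W₀, ∃ c : F, x = (w : V) + c • z := by
  rw [up, Submodule.mem_sup]
  constructor
  · rintro ⟨a, ⟨w, hw, rfl⟩, b, hb, rfl⟩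
    obtain ⟨c, rfl⟩ := Submodule.mem_span_singleton.mp hb
    exact ⟨w, hw, c, rfl⟩
  · rintro ⟨w, hw, c, rfl⟩
    exact ⟨w, ⟨w, hw, rfl⟩, _, Submodule.mem_span_singleton.mpr ⟨c, rfl⟩, rfl⟩

theorem self_mem_up (W₀ : Submodule F (pairPerp B z v)) : z ∈ up z v W₀ :=
  mem_up.mpr ⟨0, zero_mem _, 1, by simp⟩

include hB in
theorem isTI_up {W₀ : Submodule F (pairPerp B z v)}
    (h : IsTI (restr B (pairPerp B z v)) W₀) : IsTI B (up z v W₀) := by
  intro x hx y hy
  obtain ⟨a, ha, c, rfl⟩ := mem_up.mp hx
  obtain ⟨b, hb, d, rfl⟩ := mem_up.mp hy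
  have := h a ha b hb
  rw [restr_apply] at this
  simp [this, hB.self, perp_apply_left hB a, (mem_pairPerp.mp b.2).1]

theorem isTI_down {W : Submodule F V} (h : IsTI B W) :
    IsTI (restr B (pairPerp B z v)) (down z v W) := fun x hx y hy => h _ hx _ hy

include hB hzv in
theorem down_up (W₀ : Submodule F (pairPerp B z v)) : down z v (up z v W₀) = W₀ := by
  ext x
  constructor
  · intro hx
    obtain ⟨w, hw, c, hc⟩ := mem_up.mp hx
    change (x : V) = _ at hc
    have := congrArg (fun y => B y v) hc
    simp [perp_apply_left hB x, perp_apply_left hB w, hzv] at this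
    rw [← this, zero_smul, add_zero] at hc
    rwa [Subtype.ext hc]
  · intro hx; exact mem_up.mpr ⟨x, hx, 0, by simp⟩

include hB hzv in
theorem up_down {W : Submodule F V} (h : IsTI B W) (hz : z ∈ W) :
    up (B := B) z v (down z v W) = W := by
  ext x
  constructor
  · intro hx
    obtain ⟨w, hw, c, rfl⟩ := mem_up.mp hx
    exact W.add_mem hw (W.smul_mem c hz)
  · intro hx
    refine mem_up.mpr ⟨pairProj hB hzv x, ?_, B x v, eq_pairProj_add hB hzv (h x hx z hz)⟩
    show (pairProj hB hzv x : V) ∈ W
    rw [coe_pairProj_of_perp hB hzv (h x hx z hz)]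
    exact W.sub_mem hx (W.smul_mem _ hz)

include hB hzv in
theorem finrank_up [Finite V] (W₀ : Submodule F (pairPerp B z v)) :
    finrank F (up z v W₀) = finrank F W₀ + 1 := by
  have : FiniteDimensional F V := Module.Finite.of_finite
  have hz : z ≠ 0 := fun h => by simp [h] at hzv
  have hinf : W₀.map (pairPerp B z v).subtype ⊓ F ∙ z = ⊥ := by
    rw [eq_bot_iff]
    rintro x ⟨⟨w, hw, rfl⟩, hx⟩
    obtain ⟨c, hc⟩ := Submodule.mem_span_singleton.mp hx
    change c • z = (w : V) at hc
    have := congrArg (fun y => B y v) hc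
    simp [perp_apply_left hB w, hzv] at this
    simp [← hc, this]
  have := Submodule.finrank_sup_add_finrank_inf_eq (W₀.map (pairPerp B z v).subtype) (F ∙ z)
  rw [hinf, finrank_bot, add_zero, finrank_span_singleton hz,
    Submodule.finrank_map_subtype_eq] at this
  exact this

include hB hzv in
theorem finrank_down [Finite V] {W : Submodule F V} (h : IsTI B W) (hz : z ∈ W) :
    finrank F (down (B := B) z v W) + 1 = finrank F W := by
  rw [← finrank_up hB hzv, up_down hB hzv h hz]

/-- Totally isotropic subspaces through `z` correspond to those of the perpendicular. -/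
def throughEquiv [Finite V] (d : ℕ) :
    {W : TI B (d + 1) // z ∈ W.1} ≃ TI (restr B (pairPerp B z v)) d where
  toFun W := ⟨down z v W.1.1, by
    have := finrank_down hB hzv W.1.2.2 W.2
    have := W.1.2.1
    omega, isTI_down W.1.2.2⟩
  invFun W₀ := ⟨⟨up z v W₀.1, by rw [finrank_up hB hzv, W₀.2.1], isTI_up hB W₀.2.2⟩,
    self_mem_up _⟩
  left_inv W := Subtype.ext (Subtype.ext (up_down hB hzv W.1.2.2 W.2))
  right_inv W₀ := Subtype.ext (down_up hB hzv W₀.1)

/-! ### The stabiliser of a vector -/

/-- The action of a vector stabiliser on the perpendicular of a hyperbolic pair. -/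
def projMap (g : MulAction.stabilizer (Isom B) z) :
    pairPerp B z v →ₗ[F] pairPerp B z v :=
  (pairProj hB hzv).comp
    (((g : Isom B) : V ≃ₗ[F] V).toLinearMap.comp (pairPerp B z v).subtype)

theorem projMap_apply (g : MulAction.stabilizer (Isom B) z) (x : pairPerp B z v) :
    projMap hB hzv g x = pairProj hB hzv ((g : Isom B) • (x : V)) := rfl

include hB in
theorem stab_perp (g : MulAction.stabilizer (Isom B) z) (x : pairPerp B z v) :
    B ((g : Isom B) • (x : V)) z = 0 := by
  conv_lhs => arg 2; rw [← MulAction.mem_stabilizer_iff.mp g.2]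
  rw [isom_apply_smul]
  exact (perp_apply_left hB x).1

theorem projMap_mul (g h : MulAction.stabilizer (Isom B) z) (x : pairPerp B z v) :
    projMap hB hzv (g * h) x = projMap hB hzv g (projMap hB hzv h x) := by
  have hg : (g : Isom B) • z = z := MulAction.mem_stabilizer_iff.mp g.2
  simp only [projMap_apply, coe_pairProj_of_perp hB hzv (stab_perp hB h x)]
  rw [smul_sub, isom_smul_smul (g : Isom B) (B ((h : Isom B) • (x : V)) v) z, hg, LinearMap.map_sub, LinearMap.map_smul,
    pairProj_left hB hzv, smul_zero, sub_zero, Subgroup.coe_mul, mul_smul]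

theorem projMap_one (x : pairPerp B z v) : projMap hB hzv 1 x = x := by
  rw [projMap_apply, OneMemClass.coe_one, one_smul, pairProj_of_mem]

/-- The action of a vector stabiliser on the perpendicular, as a group homomorphism. -/
def proj : MulAction.stabilizer (Isom B) z →* Isom (restr B (pairPerp B z v)) where
  toFun g := ⟨LinearEquiv.ofLinearMap (projMap hB hzv g) (projMap hB hzv g⁻¹)
      (LinearMap.ext fun x => by
        rw [LinearMap.comp_apply, LinearMap.id_apply, ← projMap_mul, mul_inv_cancel, projMap_one])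
      (LinearMap.ext fun x => by
        rw [LinearMap.comp_apply, LinearMap.id_apply, ← projMap_mul, inv_mul_cancel, projMap_one]),
    fun x y => by
      show B (pairProj hB hzv ((g : Isom B) • (x : V)) : V)
        (pairProj hB hzv ((g : Isom B) • (y : V)) : V) = B (x : V) (y : V)
      rw [← isom_apply_smul (g : Isom B) (x : V) (y : V), apply_split hB hzv
        ((g : Isom B) • (x : V)), stab_perp hB g x, stab_perp hB g y]
      ring⟩
  map_one' := isom_ext fun x => projMap_one hB hzv x
  map_mul' g h := isom_ext fun x => projMap_mul hB hzv g h x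

theorem proj_smul (g : MulAction.stabilizer (Isom B) z) (x : pairPerp B z v) :
    proj hB hzv g • x = pairProj hB hzv ((g : Isom B) • (x : V)) := rfl

/-- The section of `proj`. -/
def sect (k : Isom (restr B (pairPerp B z v))) : MulAction.stabilizer (Isom B) z :=
  ⟨extHom hB hzv k, extHom_smul_left hB hzv k⟩

theorem proj_sect (k : Isom (restr B (pairPerp B z v))) : proj hB hzv (sect hB hzv k) = k := by
  apply isom_ext; intro x
  rw [proj_smul]
  show pairProj hB hzv (extHom hB hzv k • (x : V)) = _
  rw [extHom_smul_mem, pairProj_of_mem]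

theorem stab_ext {g h : MulAction.stabilizer (Isom B) z}
    (h1 : (g : Isom B) • v = (h : Isom B) • v) (h2 : proj hB hzv g = proj hB hzv h) : g = h := by
  have hmem : ((h⁻¹ * g : MulAction.stabilizer (Isom B) z) : Isom B) ∈
      (extHom hB hzv).range := by
    rw [range_extHom hB hzv, MulAction.mem_stabilizer_iff]
    refine Prod.ext (MulAction.mem_stabilizer_iff.mp (h⁻¹ * g).2) ?_
    show ((h⁻¹ * g : MulAction.stabilizer (Isom B) z) : Isom B) • v = v
    rw [Subgroup.coe_mul, mul_smul, h1, Subgroup.coe_inv, inv_smul_smul]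
  obtain ⟨k, hk⟩ := hmem
  have e : h⁻¹ * g = sect hB hzv k := Subtype.ext hk.symm
  have : proj hB hzv (h⁻¹ * g) = k := by rw [e, proj_sect]
  rw [map_mul, map_inv, h2, inv_mul_cancel] at this
  rw [← this] at hk
  rw [map_one] at hk
  exact (inv_mul_eq_one.mp (Subtype.ext hk.symm)).symm

theorem exists_stab {v' : V} (hv' : B z v' = 1) (k : Isom (restr B (pairPerp B z v))) :
    ∃ g : MulAction.stabilizer (Isom B) z, (g : Isom B) • v = v' ∧ proj hB hzv g = k := by
  obtain ⟨g₀, -, hgz, hgv⟩ := exists_TG_hyperbolic hB hzv hv'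
  let g : MulAction.stabilizer (Isom B) z := ⟨g₀, hgz⟩
  refine ⟨g * sect hB hzv ((proj hB hzv g)⁻¹ * k), ?_, ?_⟩
  · rw [Subgroup.coe_mul, mul_smul]
    show g₀ • (extHom hB hzv _ • v) = v'
    rw [extHom_smul_right, hgv]
  · rw [map_mul, proj_sect, mul_inv_cancel_left]

/-- The kernel of `proj` corresponds to the vectors pairing to one with `z`. -/
noncomputable def kerEquiv : (proj hB hzv).ker ≃ {v' : V // B z v' = 1} :=
  Equiv.ofBijective (fun g => ⟨((g : MulAction.stabilizer (Isom B) z) : Isom B) • v, by
      conv_lhs => arg 1; arg 2; rw [← MulAction.mem_stabilizer_iff.mp g.1.2]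
      rw [isom_apply_smul, hzv]⟩)
    ⟨fun g h e => Subtype.ext (stab_ext hB hzv (congrArg Subtype.val e)
      ((MonoidHom.mem_ker.mp g.2).trans (MonoidHom.mem_ker.mp h.2).symm)),
    fun v' => by
      obtain ⟨g, hg, hk⟩ := exists_stab hB hzv v'.2 1
      exact ⟨⟨g, hk⟩, Subtype.ext hg⟩⟩

include hzv in
/-- The affine hyperplane of vectors pairing to one with `z`, as translates of its direction. -/
def affEquiv : {v' : V // B z v' = 1} ≃ LinearMap.ker (B z) where
  toFun x := ⟨x.1 - v, by rw [LinearMap.mem_ker, map_sub, x.2, hzv, sub_self]⟩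
  invFun y := ⟨y.1 + v, by rw [map_add, LinearMap.mem_ker.mp y.2, zero_add, hzv]⟩
  left_inv x := Subtype.ext (sub_add_cancel _ _)
  right_inv y := Subtype.ext (add_sub_cancel_right _ _)

theorem isPGroup_ker [Finite V] [Finite F] (p : ℕ) [Fact p.Prime] [CharP F p] :
    IsPGroup p (proj hB hzv).ker := by
  have : Fintype F := Fintype.ofFinite F
  have : FiniteDimensional F V := Module.Finite.of_finite
  obtain ⟨n, -, hn⟩ := FiniteField.card F p
  refine IsPGroup.of_card (n := (n : ℕ) * finrank F (LinearMap.ker (B z))) ?_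
  rw [Nat.card_congr ((kerEquiv hB hzv).trans (affEquiv hzv)),
    card_sub (q := p ^ (n : ℕ)) (by rw [Nat.card_eq_fintype_card, hn]), ← pow_mul]

theorem pel_iff [Finite V] [Finite F] (p : ℕ) [Fact p.Prime] [CharP F p]
    (g : MulAction.stabilizer (Isom B) z) : PEl p g ↔ PEl p (proj hB hzv g) := by
  constructor
  · rintro ⟨k, hk⟩; exact ⟨k, by rw [← map_pow, hk, map_one]⟩
  · rintro ⟨k, hk⟩
    obtain ⟨j, hj⟩ := isPGroup_ker hB hzv p ⟨g ^ p ^ k, by rw [MonoidHom.mem_ker, map_pow, hk]⟩
    refine ⟨k + j, ?_⟩
    rw [pow_add, pow_mul]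
    exact congrArg Subtype.val hj

theorem pel_coe {G : Type*} [Group G] {H : Subgroup G} (p : ℕ) (g : H) :
    PEl p (g : G) ↔ PEl p g := by
  exact exists_congr fun k => by rw [← Subgroup.coe_pow, OneMemClass.coe_eq_one]

/-- Peeling one vector off a fixer. -/
noncomputable def fixerEquiv [Finite V] [Finite F] (p : ℕ) [Fact p.Prime] [CharP F p]
    {W : Submodule F V} (h : IsTI B W) (hz : z ∈ W) :
    Fixer B p W ≃ {v' : V // v' - v ∈ orth B W} ×
      Fixer (restr B (pairPerp B z v)) p (down z v W) :=
  Equiv.ofBijective (fun g =>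
    (⟨g.1 • v, mem_orth.mpr fun w hw => by
        rw [map_sub, sub_eq_zero]
        conv_lhs => arg 1; arg 2; rw [← g.2.1 w hw]
        rw [isom_apply_smul]⟩,
      ⟨proj hB hzv ⟨g.1, g.2.1 z hz⟩, fun x hx => by
          rw [proj_smul]
          show pairProj hB hzv (g.1 • (x : V)) = x
          rw [g.2.1 (x : V) hx, pairProj_of_mem],
        (pel_iff hB hzv p _).mp ((pel_coe p _).mp g.2.2)⟩))
    ⟨fun g g' e => by
      have e1 := congrArg (fun t => (t.1.1 : V)) e
      have e2 := congrArg (fun t => t.2.1) e
      have := stab_ext hB hzv (g := ⟨g.1, g.2.1 z hz⟩) (h := ⟨g'.1, g'.2.1 z hz⟩) e1 e2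
      exact Subtype.ext (congrArg (fun t : MulAction.stabilizer (Isom B) z => (t : Isom B)) this),
    fun ⟨⟨v', hv'⟩, ⟨k, hk, hkp⟩⟩ => by
      have hv'' := mem_orth.mp hv'
      have hz1 : B z v' = 1 := by
        have := hv'' z hz
        rwa [map_sub, hzv, sub_eq_zero] at this
      obtain ⟨g, hgv, hgk⟩ := exists_stab hB hzv hz1 k
      refine ⟨⟨g.1, fun x hx => ?_, (pel_coe p g).mpr ((pel_iff hB hzv p g).mpr (hgk ▸ hkp))⟩,
        Prod.ext (Subtype.ext hgv) (Subtype.ext hgk)⟩
      have hx0 : pairProj hB hzv x ∈ down z v W := by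
        show (pairProj hB hzv x : V) ∈ W
        rw [coe_pairProj_of_perp hB hzv (h x hx z hz)]
        exact W.sub_mem hx (W.smul_mem _ hz)
      have hgz : (g : Isom B) • z = z := MulAction.mem_stabilizer_iff.mp g.2
      have hp : (pairProj hB hzv ((g : Isom B) • (pairProj hB hzv x : V)) : V) =
          (pairProj hB hzv x : V) := by
        rw [← proj_smul hB hzv g, hgk, hk _ hx0]
      set w : V := (pairProj hB hzv x : V) with hw
      have hgw := eq_pairProj_add hB hzv (stab_perp hB g (pairProj hB hzv x))
      rw [← hw, hp] at hgw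
      have hc : B ((g : Isom B) • w) v = 0 := by
        have h1 : B ((g : Isom B) • w) ((g : Isom B) • v) = 0 := by
          rw [isom_apply_smul]; exact (perp_apply_left hB _).2
        have h2 : B w v' = 0 := by
          have := hv'' w hx0
          rwa [map_sub, (perp_apply_left hB _).2, sub_zero] at this
        rw [hgv, hgw] at h1
        simpa [h2, hz1] using h1
      rw [hc, zero_smul, add_zero] at hgw
      conv_lhs => rw [eq_pairProj_add hB hzv (h x hx z hz)]
      rw [smul_add, isom_smul_smul, hgz, ← hw, hgw, ← eq_pairProj_add hB hzv (h x hx z hz)]⟩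

include hB hzv in
theorem card_fixer [Finite V] [Finite F] (p : ℕ) [Fact p.Prime] [CharP F p] {q : ℕ}
    (hq : Nat.card F = q) {W : Submodule F V} (h : IsTI B W) (hz : z ∈ W) :
    Nat.card (Fixer B p W) = q ^ (finrank F V - finrank F W) *
      Nat.card (Fixer (restr B (pairPerp B z v)) p (down z v W)) := by
  rw [Nat.card_congr (fixerEquiv hB hzv p h hz), Nat.card_prod]
  congr 1
  have := finrank_orth hB W
  have e : {v' : V // v' - v ∈ orth B W} ≃ orth B W :=
    Equiv.subtypeEquiv (Equiv.subRight v) fun _ => Iff.rfl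
  rw [Nat.card_congr e, card_sub hq (orth B W)]
  congr 1
  omega

end Cfsg.Agent.Lib.SpUnipotent
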