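import Cfsg.Agent.Lib.SpUnipotent.SymmIsom

/-!
# Centralisers of square-zero self-adjoint maps in characteristic two

In the model space `U × U × Y` with form `β(a,b') + β(b,a') + C(c,c')` and `N (a,b,c) = (0,a,0)`
the isometries commuting with `N` are parametrised by `A ∈ Isom β`, `D ∈ Isom C`, `S : U →ₗ Y`
and a symmetric correction, which gives their number.
-/

set_option autoImplicit false

namespace Cfsg.Agent.Lib.SpUnipotent

open Module Symplectic

variable {F : Type*} {U Y : Type*} [Field F] [AddCommGroup U] [Module F U] [AddCommGroup Y]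
  [Module F Y]

/-- The model form. -/
def modelForm (β : U →ₗ[F] U →ₗ[F] F) (C : Y →ₗ[F] Y →ₗ[F] F) :
    (U × U × Y) →ₗ[F] (U × U × Y) →ₗ[F] F :=
  β.compl₁₂ (LinearMap.fst F U (U × Y))
      ((LinearMap.fst F U Y).comp (LinearMap.snd F U (U × Y))) +
    β.compl₁₂ ((LinearMap.fst F U Y).comp (LinearMap.snd F U (U × Y)))
      (LinearMap.fst F U (U × Y)) +
    C.compl₁₂ ((LinearMap.snd F U Y).comp (LinearMap.snd F U (U × Y)))
      ((LinearMap.snd F U Y).comp (LinearMap.snd F U (U × Y)))

/-- The model square-zero map. -/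
def modelN : (U × U × Y) →ₗ[F] (U × U × Y) :=
  (LinearMap.inr F U (U × Y)).comp ((LinearMap.inl F U Y).comp (LinearMap.fst F U (U × Y)))

theorem modelForm_apply (β : U →ₗ[F] U →ₗ[F] F) (C : Y →ₗ[F] Y →ₗ[F] F) (x y : U × U × Y) :
    modelForm β C x y = β x.1 y.2.1 + β x.2.1 y.1 + C x.2.2 y.2.2 := rfl

theorem modelN_apply (x : U × U × Y) : modelN (F := F) x = (0, x.1, 0) := rfl

/-- The linear maps of the model preserving the form and commuting with `modelN`. -/
abbrev ModelCent (β : U →ₗ[F] U →ₗ[F] F) (C : Y →ₗ[F] Y →ₗ[F] F) :=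
  {f : (U × U × Y) →ₗ[F] (U × U × Y) //
    (∀ x y, modelForm β C (f x) (f y) = modelForm β C x y) ∧ ∀ x : U × U × Y, f (modelN (F := F) (U := U) (Y := Y) x) = modelN (F := F) (U := U) (Y := Y) (f x)}

/-- The symmetrisation equation for a correction term. -/
def IsCorr (β : U →ₗ[F] U →ₗ[F] F) (C : Y →ₗ[F] Y →ₗ[F] F) (S : U →ₗ[F] Y) (P : U →ₗ[F] U) :
    Prop := ∀ a a', β a (P a') + β (P a) a' = C (S a) (S a')

/-- Parameters of the centraliser. -/
abbrev Param (β : U →ₗ[F] U →ₗ[F] F) (C : Y →ₗ[F] Y →ₗ[F] F) :=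
  Isom β × Isom C × Σ S : U →ₗ[F] Y, {P : U →ₗ[F] U // IsCorr β C S P}

variable [CharP F 2] [FiniteDimensional F U] [FiniteDimensional F Y]
  {β : U →ₗ[F] U →ₗ[F] F} {C : Y →ₗ[F] Y →ₗ[F] F}
  (hsym : ∀ x y, β x y = β y x) (hnd : ∀ x, (∀ y, β x y = 0) → x = 0) (hC : IsSympForm C)

omit [CharP F 2] [FiniteDimensional F Y] in
include hnd in
theorem exists_flipEquiv : ∃ e : U ≃ₗ[F] Dual F U, ∀ x, e x = β x := by
  have hinj : Function.Injective β := by
    rw [injective_iff_map_eq_zero]
    exact fun x hx => hnd x fun y => by rw [hx, LinearMap.zero_apply]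
  exact ⟨β.linearEquivOfInjective hinj Subspace.dual_finrank_eq.symm,
    fun x => rfl⟩

/-- The map `c ↦ (a ↦ C (S a) (D c))` read through `β`. -/
noncomputable def corrMap (D : Isom C) (S : U →ₗ[F] Y) : Y →ₗ[F] U :=
  ((exists_flipEquiv hnd).choose.symm.toLinearMap).comp
    ((C.compl₂ (D : Y ≃ₗ[F] Y).toLinearMap).comp S).flip

omit [CharP F 2] [FiniteDimensional F Y] in
theorem corrMap_spec (D : Isom C) (S : U →ₗ[F] Y) (c : Y) (a : U) :
    β (corrMap hnd D S c) a = C (S a) (D • c) := by
  have h := (exists_flipEquiv hnd).choose_spec (corrMap hnd D S c)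
  rw [← h, corrMap, LinearMap.comp_apply, LinearEquiv.coe_coe, LinearEquiv.apply_symm_apply]
  rfl

/-- The map attached to parameters. -/
noncomputable def ofParam (t : Param β C) : (U × U × Y) →ₗ[F] (U × U × Y) :=
  LinearMap.prod
    (((t.1 : U ≃ₗ[F] U).toLinearMap).comp (LinearMap.fst F U (U × Y)))
    (LinearMap.prod
      ((t.1 : U ≃ₗ[F] U).toLinearMap.comp
        (t.2.2.2.1.comp (LinearMap.fst F U (U × Y)) +
          (LinearMap.fst F U Y).comp (LinearMap.snd F U (U × Y)) +
          (corrMap hnd t.2.1 t.2.2.1).comp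
            ((LinearMap.snd F U Y).comp (LinearMap.snd F U (U × Y)))))
      (t.2.2.1.comp (LinearMap.fst F U (U × Y)) +
        (t.2.1 : Y ≃ₗ[F] Y).toLinearMap.comp
          ((LinearMap.snd F U Y).comp (LinearMap.snd F U (U × Y)))))

omit [CharP F 2] [FiniteDimensional F Y] in
theorem ofParam_apply (t : Param β C) (x : U × U × Y) :
    ofParam hnd t x = (t.1 • x.1,
      t.1 • (t.2.2.2.1 x.1 + x.2.1 + corrMap hnd t.2.1 t.2.2.1 x.2.2),
      t.2.2.1 x.1 + t.2.1 • x.2.2) := rfl

include hsym hnd hC in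
omit [FiniteDimensional F Y] in
theorem ofParam_mem (t : Param β C) :
    (∀ x y, modelForm β C (ofParam hnd t x) (ofParam hnd t y) = modelForm β C x y) ∧
      ∀ x : U × U × Y, ofParam hnd t (modelN (F := F) (U := U) (Y := Y) x) = modelN (F := F) (U := U) (Y := Y) (ofParam hnd t x) := by
  obtain ⟨A, D, S, P, hP⟩ := t
  refine ⟨fun x y => ?_, fun x => ?_⟩
  · obtain ⟨a, b, c⟩ := x
    obtain ⟨a', b', c'⟩ := y
    simp only [modelForm_apply, ofParam_apply, isom_apply_smul, map_add, LinearMap.add_apply]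
    rw [hsym a (corrMap hnd D S c'), corrMap_spec hnd D S c' a, corrMap_spec hnd D S c a',
      hC.swap (D • c) (S a')]
    linear_combination hP a a' + C (S a) (D • c') * CharTwo.two_eq_zero (R := F) +
      C (S a) (S a') * CharTwo.two_eq_zero (R := F)
  · simp [modelN_apply, ofParam_apply]

include hsym hnd hC in
theorem card_modelCent : Nat.card (ModelCent β C) = Nat.card (Param β C) := by
  refine (Nat.card_eq_of_bijective
    (fun t => ⟨ofParam hnd t, ofParam_mem hsym hnd hC t⟩) ⟨?_, ?_⟩).symm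
  · intro t t' e
    have e' : ∀ x, ofParam hnd t x = ofParam hnd t' x := fun x =>
      LinearMap.congr_fun (congrArg Subtype.val e) x
    have eA : t.1 = t'.1 := isom_ext fun a => by
      simpa [ofParam_apply] using congrArg Prod.fst (e' (a, 0, 0))
    have eD : t.2.1 = t'.2.1 := isom_ext fun c => by
      simpa [ofParam_apply] using congrArg (fun z => z.2.2) (e' (0, 0, c))
    have eS : t.2.2.1 = t'.2.2.1 := LinearMap.ext fun a => by
      simpa [ofParam_apply] using congrArg (fun z => z.2.2) (e' (a, 0, 0))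
    obtain ⟨A, D, S, P, hP⟩ := t
    obtain ⟨A', D', S', P', hP'⟩ := t'
    obtain rfl : A = A' := eA
    obtain rfl : D = D' := eD
    obtain rfl : S = S' := eS
    have eP : P = P' := LinearMap.ext fun a => by
      simpa [ofParam_apply] using congrArg (fun z => z.2.1) (e' (a, 0, 0))
    subst eP
    rfl
  · rintro ⟨f, hiso, hcomm⟩
    set fa : U →ₗ[F] (U × U × Y) := f.comp (LinearMap.inl F U (U × Y)) with hfa
    set fc : Y →ₗ[F] (U × U × Y) :=
      f.comp ((LinearMap.inr F U (U × Y)).comp (LinearMap.inr F U Y)) with hfc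
    let A₀ : U →ₗ[F] U := (LinearMap.fst F U (U × Y)).comp fa
    let D₀ : Y →ₗ[F] Y := ((LinearMap.snd F U Y).comp (LinearMap.snd F U (U × Y))).comp fc
    have hb : ∀ b, f (0, b, 0) = (0, A₀ b, 0) := fun b => by
      have := hcomm (b, 0, 0)
      simpa [modelN_apply, A₀, hfa, Prod.zero_eq_mk] using this
    have hc0 : ∀ c, (fc c).1 = 0 := fun c => by
      have := hcomm (0, 0, c)
      simp only [modelN_apply] at this
      rw [show ((0 : U), ((0 : U), (0 : Y))) = 0 from rfl, map_zero] at this
      simpa [hfc] using (congrArg (fun z => z.2.1) this).symm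
    have hA : ∀ a b, β (A₀ a) (A₀ b) = β a b := fun a b => by
      have := hiso (a, 0, 0) (0, b, 0)
      rw [hb] at this
      simpa [modelForm_apply, A₀, hfa, Prod.zero_eq_mk] using this
    have hD : ∀ c c', C (D₀ c) (D₀ c') = C c c' := fun c c' => by
      have := hiso (0, 0, c) (0, 0, c')
      have h1 := hc0 c
      have h2 := hc0 c'
      simp [hfc] at h1 h2
      simpa [modelForm_apply, D₀, hfc, h1, h2] using this
    let A : Isom β := (isomEquivMap hnd).symm ⟨A₀, hA⟩
    let D : Isom C := (isomEquivMap hC.nondeg).symm ⟨D₀, hD⟩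
    let S : U →ₗ[F] Y := ((LinearMap.snd F U Y).comp (LinearMap.snd F U (U × Y))).comp fa
    let P : U →ₗ[F] U := ((A⁻¹ : Isom β) : U ≃ₗ[F] U).toLinearMap.comp
      (((LinearMap.fst F U Y).comp (LinearMap.snd F U (U × Y))).comp fa)
    have hP0 : ∀ a, A • P a = (fa a).2.1 := fun a => smul_inv_smul A _
    have hA0 : ∀ a, A • a = (fa a).1 := fun a => rfl
    have hP : IsCorr β C S P := fun a a' => by
      have := hiso (a, 0, 0) (a', 0, 0)
      simp only [modelForm_apply, map_zero, LinearMap.zero_apply, add_zero] at this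
      change β (fa a).1 (fa a').2.1 + β (fa a).2.1 (fa a').1 + C (S a) (S a') = 0 at this
      rw [← hP0, ← hP0, ← hA0, ← hA0, isom_apply_smul, isom_apply_smul] at this
      linear_combination this - C (S a) (S a') * CharTwo.two_eq_zero (R := F)
    have hR : ∀ c, A • corrMap hnd D S c = (fc c).2.1 := by
      intro c
      rw [← smul_inv_smul A (fc c).2.1]
      congr 1
      refine sub_eq_zero.mp (hnd _ fun a => ?_)
      have := hiso (0, 0, c) (a, 0, 0)
      simp only [modelForm_apply, map_zero, LinearMap.zero_apply, add_zero] at this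
      change β (fc c).1 (fa a).2.1 + β (fc c).2.1 (fa a).1 + C (D • c) (S a) = 0 at this
      rw [hc0, map_zero, LinearMap.zero_apply, zero_add, ← hA0,
        ← smul_inv_smul A (fc c).2.1, isom_apply_smul, hC.swap (D • c) (S a)] at this
      rw [map_sub, LinearMap.sub_apply, corrMap_spec]
      linear_combination -this
    refine ⟨⟨A, D, S, P, hP⟩, Subtype.ext (LinearMap.ext fun x => ?_)⟩
    obtain ⟨a, b, c⟩ := x
    have e1 : f (a, b, c) = fa a + f (0, b, 0) + fc c := by
      simp only [hfa, hfc, LinearMap.comp_apply, LinearMap.inl_apply, LinearMap.inr_apply,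
        ← map_add, Prod.mk_add_mk, add_zero, zero_add]
    show ofParam hnd ⟨A, D, S, P, hP⟩ (a, b, c) = f (a, b, c)
    rw [e1, hb, ofParam_apply]
    simp only [smul_add, hP0, hR]
    refine Prod.ext ?_ (Prod.ext ?_ ?_)
    · simp [hA0, hc0]
    · simp only [Prod.snd_add, Prod.fst_add]
      rfl
    · simp only [Prod.snd_add, add_zero]
      rfl

/-- The number of matrices with prescribed alternating symmetrisation. -/
theorem card_symmetrisation [Finite F] {n : ℕ} (K : Matrix (Fin n) (Fin n) F)
    (hK : ∀ i, K i i = 0) (hKs : ∀ i j, K i j = K j i) :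
    Nat.card {M : Matrix (Fin n) (Fin n) F // ∀ i j, M i j + M j i = K i j} =
      Nat.card F ^ (n * (n + 1) / 2) := by
  classical
  let mk : ({p : Fin n × Fin n // p.1 ≤ p.2} → F) → Matrix (Fin n) (Fin n) F := fun f =>
    Matrix.of fun i j => if h : i ≤ j then f ⟨(i, j), h⟩ else
      K i j - f ⟨(j, i), le_of_not_ge h⟩
  have hmk : ∀ f i j, mk f i j + mk f j i = K i j := fun f i j => by
    rcases lt_trichotomy i j with h | rfl | h
    · simp [mk, h.le, not_le.mpr h, hKs j i]
    · simp [mk, hK, CharTwo.add_self_eq_zero]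
    · simp [mk, h.le, not_le.mpr h]
  let E : {M : Matrix (Fin n) (Fin n) F // ∀ i j, M i j + M j i = K i j} ≃
      ({p : Fin n × Fin n // p.1 ≤ p.2} → F) :=
    { toFun := fun M p => M.1 p.1.1 p.1.2
      invFun := fun f => ⟨mk f, hmk f⟩
      left_inv := fun M => by
        refine Subtype.ext (Matrix.ext fun i j => ?_)
        show mk (fun p => M.1 p.1.1 p.1.2) i j = M.1 i j
        simp only [mk, Matrix.of_apply]
        split_ifs with h
        · rfl
        · simp [← M.2 i j]
      right_inv := fun f => funext fun p => by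
        show mk f p.1.1 p.1.2 = f p
        simp only [mk, Matrix.of_apply]
        rw [dif_pos p.2] }
  rw [Nat.card_congr E, Nat.card_fun]
  congr 1
  rw [← Nat.card_congr Sym2.sortEquiv, Nat.card_eq_fintype_card, Sym2.card, Fintype.card_fin,
    Nat.choose_two_right, Nat.add_sub_cancel, Nat.mul_comm]

include hsym hnd hC in
omit [FiniteDimensional F Y] in
theorem card_corr [Finite F] (S : U →ₗ[F] Y) :
    Nat.card {P : U →ₗ[F] U // IsCorr β C S P} =
      Nat.card F ^ (finrank F U * (finrank F U + 1) / 2) := by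
  let b := Module.finBasis F U
  obtain ⟨e, he⟩ := exists_flipEquiv hnd
  let Φ : (U →ₗ[F] U) ≃ Matrix (Fin (finrank F U)) (Fin (finrank F U)) F :=
    ((LinearEquiv.congrRight e).trans (LinearMap.toMatrix₂ b b)).toEquiv
  have hΦ : ∀ P i j, Φ P i j = β (P (b i)) (b j) := fun P i j => by
    show LinearMap.toMatrix₂ b b ((LinearEquiv.congrRight e) P) i j = _
    rw [LinearMap.toMatrix₂_apply]
    show e (P (b i)) (b j) = _
    rw [he]
  rw [Nat.card_congr (Equiv.subtypeEquiv Φ
    (q := fun M => ∀ i j, M i j + M j i = C (S (b i)) (S (b j))) fun P => ?_),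
    card_symmetrisation (fun i j => C (S (b i)) (S (b j))) (fun i => hC.self _)
      fun i j => by rw [hC.swap, CharTwo.neg_eq]]
  constructor
  · intro h i j
    rw [hΦ, hΦ, add_comm, hsym (P (b j)) (b i)]
    exact h _ _
  · intro h a a'
    have h2 : β.compl₂ P + β.comp P = C.compl₁₂ S S := LinearMap.ext_basis b b fun i j => by
      have := h i j
      rw [hΦ, hΦ, add_comm, hsym (P (b j)) (b i)] at this
      simpa using this
    simpa using LinearMap.congr_fun (LinearMap.congr_fun h2 a) a'

include hsym hnd hC in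
/-- The order of the centraliser in the model. -/
theorem card_modelCent_eq [Finite F] {q : ℕ} (hq : Nat.card F = q) :
    Nat.card (ModelCent β C) = Nat.card (Isom β) * Nat.card (Isom C) *
      q ^ (finrank F U * finrank F Y + finrank F U * (finrank F U + 1) / 2) := by
  have : Finite U := Module.finite_of_finite F
  have : Finite Y := Module.finite_of_finite F
  have : Finite (U →ₗ[F] Y) := Module.finite_of_finite F
  have : Finite (U →ₗ[F] U) := Module.finite_of_finite F
  have : Fintype (U →ₗ[F] Y) := Fintype.ofFinite _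
  rw [card_modelCent hsym hnd hC, Nat.card_prod, Nat.card_prod, Nat.card_sigma,
    Finset.sum_congr rfl fun S _ => card_corr hsym hnd hC S, Finset.sum_const, Finset.card_univ,
    ← Nat.card_eq_fintype_card, smul_eq_mul,
    Module.natCard_eq_pow_finrank (K := F) (V := U →ₗ[F] Y),
    Module.finrank_linearMap, hq, ← pow_add, mul_assoc]

/-- Transporting the centraliser to the model. -/
theorem card_commutant {V : Type*} [AddCommGroup V] [Module F V] [FiniteDimensional F V]
    {B : V →ₗ[F] V →ₗ[F] F} (hB : IsSympForm B) (N : V →ₗ[F] V)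
    (e : (U × U × Y) ≃ₗ[F] V) (he : ∀ x y, B (e x) (e y) = modelForm β C x y)
    (heN : ∀ x, e (modelN (F := F) (U := U) (Y := Y) x) = N (e x)) :
    Nat.card {g : Isom B // ∀ x, g • N x = N (g • x)} = Nat.card (ModelCent β C) := by
  have hnd : ∀ x, (∀ y, modelForm β C x y = 0) → x = 0 := fun x h => by
    apply e.injective
    rw [map_zero]
    exact hB.nondeg _ fun y => by rw [← e.apply_symm_apply y, he]; exact h _
  let Φ : Isom (modelForm β C) ≃* Isom B := isomCongr e he
  have hΦ : ∀ g x, Φ g • e x = e (g • x) := fun g x => isomCongr_smul e he g x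
  rw [← Nat.card_congr ((Equiv.subtypeSubtypeEquivSubtypeInter
    (fun f : (U × U × Y) →ₗ[F] (U × U × Y) =>
      ∀ x y, modelForm β C (f x) (f y) = modelForm β C x y)
    (fun f => ∀ x : U × U × Y, f (modelN (F := F) (U := U) (Y := Y) x) = modelN (F := F) (U := U) (Y := Y) (f x))))]
  refine (Nat.card_congr (Equiv.subtypeEquiv ((isomEquivMap hnd).symm.trans Φ.toEquiv)
    fun f => ?_)).symm
  set g := (isomEquivMap hnd).symm f with hg
  show _ ↔ ∀ x, Φ g • N x = N (Φ g • x)
  have hgf : ∀ x, g • x = f.1 x := fun x => by rw [hg, coe_isomEquivMap_symm]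
  constructor
  · intro h x
    obtain ⟨y, rfl⟩ := e.surjective x
    rw [← heN, hΦ, hΦ, ← heN, hgf, hgf]
    exact congrArg e (h y)
  · intro h x
    apply e.injective
    rw [heN, ← hgf, ← hgf, ← hΦ, ← hΦ, heN]
    exact h _

end Cfsg.Agent.Lib.SpUnipotent
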