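import Cfsg.Agent.Lib.Symplectic.Std
import Cfsg.Agent.Lib.Char2Inv.Symplectic
import Cfsg.Agent.Lib.SpUnipotent.Count
import Cfsg.Agent.Lib.SpUnipotent.InvCent

/-!
# Centraliser orders of involutions of `Sp_2m(q)`, `q` even
-/

set_option autoImplicit false

namespace Cfsg.Agent.Lib.SpUnipotent

open Module Symplectic Char2Inv.Forms Char2Inv.Normal

variable {F : Type*} [Field F]

/-- The form `(a, b) ↦ ∑ a i * b (π i)`. -/
def frameForm {ι : Type*} [Fintype ι] (π : ι → ι) : (ι → F) →ₗ[F] (ι → F) →ₗ[F] F :=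
  LinearMap.mk₂ F (fun a b => ∑ i, a i * b (π i))
    (fun a a' b => by simp [add_mul, Finset.sum_add_distrib])
    (fun c a b => by simp [Finset.mul_sum, mul_assoc])
    (fun a b b' => by simp [mul_add, Finset.sum_add_distrib])
    (fun c a b => by simp [Finset.mul_sum, mul_left_comm])

section FrameForm

variable {ι : Type*} [Fintype ι] {π : ι → ι}

theorem frameForm_apply (a b : ι → F) : frameForm π a b = ∑ i, a i * b (π i) := rfl

theorem frameForm_symm (hπ : Function.Involutive π) (a b : ι → F) :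
    frameForm π a b = frameForm π b a := by
  simp only [frameForm_apply]
  exact Fintype.sum_equiv hπ.toPerm _ _ fun i => by
    rw [Function.Involutive.coe_toPerm, hπ i, mul_comm]

theorem frameForm_nondeg (hπ : Function.Involutive π) (a : ι → F)
    (h : ∀ b, frameForm π a b = 0) : a = 0 := by
  classical
  funext i
  have := h (Pi.single (π i) 1)
  rw [frameForm_apply, Finset.sum_eq_single i] at this
  · simpa using this
  · intro j _ hj
    rw [Pi.single_eq_of_ne (fun e => hj (hπ.injective e)), mul_zero]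
  · simp

theorem isSympForm_swap [CharP F 2] (k : ℕ) :
    IsSympForm (frameForm (F := F) (Sum.swap : Fin k ⊕ Fin k → Fin k ⊕ Fin k)) where
  self a := by
    simp only [frameForm_apply, Fintype.sum_sum_type, Sum.swap_inl, Sum.swap_inr]
    rw [← Finset.sum_add_distrib]
    exact Finset.sum_eq_zero fun i _ => by rw [mul_comm, CharTwo.add_self_eq_zero]
  nondeg := frameForm_nondeg Sum.swap_leftInverse

end FrameForm

variable [Fintype F] [CharP F 2] {q m : ℕ}

omit [Fintype F] in
theorem card_centralizer_eq (t : Matrix.symplecticGroup (Fin m) F) :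
    Nat.card ↥(Subgroup.centralizer ({t} : Set ↥(Matrix.symplecticGroup (Fin m) F))) =
      Nat.card {g : Isom (stdForm m F) //
        ∀ x, g • ((t : Matrix (Fin m ⊕ Fin m) (Fin m ⊕ Fin m) F) - 1).mulVecLin x =
          ((t : Matrix (Fin m ⊕ Fin m) (Fin m ⊕ Fin m) F) - 1).mulVecLin (g • x)} := by
  refine Nat.card_congr (Equiv.subtypeEquiv (spEquiv m F).toEquiv fun g => ?_)
  show g ∈ Subgroup.centralizer ({t} : Set ↥(Matrix.symplecticGroup (Fin m) F)) ↔ ∀ x,
    spEquiv m F g • _ = _
  rw [Subgroup.mem_centralizer_singleton_iff]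
  have hN : ∀ y, ((t : Matrix (Fin m ⊕ Fin m) (Fin m ⊕ Fin m) F) - 1).mulVecLin y =
      spEquiv m F t • y - y := fun y => by
    rw [Matrix.mulVecLin_apply, Matrix.sub_mulVec, Matrix.one_mulVec, spEquiv_smul]
  simp only [MulEquiv.toEquiv_eq_coe, EquivLike.coe_coe, hN, smul_sub,
    sub_left_inj, ← mul_smul, ← map_mul]
  constructor
  · intro h x; rw [h]
  · intro h; exact (spEquiv m F).injective (isom_ext h)

theorem isSqZero_sub_one (t : Matrix.symplecticGroup (Fin m) F) (ht : t ^ 2 = 1) :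
    IsSqZero (Cfsg.sympForm m F)
      ((t : Matrix (Fin m ⊕ Fin m) (Fin m ⊕ Fin m) F) - 1).mulVecLin :=
  Char2Inv.Symplectic.sqZero_of_involution t.2
    (by rw [← Submonoid.coe_mul, ← pow_two, ht, Submonoid.coe_one])

theorem card_of_NF (hq : Fintype.card F = q) (t : Matrix.symplecticGroup (Fin m) F)
    {ι : Type*} [Fintype ι] [DecidableEq ι] {π : ι → ι} (hπ : Function.Involutive π) {l : ℕ}
    {w : ι → (Fin m ⊕ Fin m → F)} {y : Fin l ⊕ Fin l → (Fin m ⊕ Fin m → F)}
    (h : NF (Cfsg.sympForm m F) ((t : Matrix (Fin m ⊕ Fin m) (Fin m ⊕ Fin m) F) - 1).mulVecLin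
      π Sum.swap w y)
    (hN : IsSqZero (Cfsg.sympForm m F)
      ((t : Matrix (Fin m ⊕ Fin m) (Fin m ⊕ Fin m) F) - 1).mulVecLin) :
    m = Fintype.card ι + l ∧
    Nat.card ↥(Subgroup.centralizer ({t} : Set ↥(Matrix.symplecticGroup (Fin m) F))) =
      Nat.card (Isom (frameForm (F := F) π)) * (q ^ l ^ 2 * ∏ i : Fin l, (q ^ (2 * ((i : ℕ) + 1)) - 1)) *
      q ^ (Fintype.card ι * (2 * l) + Fintype.card ι * (Fintype.card ι + 1) / 2) := by
  have hH := Char2Inv.Symplectic.sympForm_isHerm (F := F) (m := m)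
  set N := ((t : Matrix (Fin m ⊕ Fin m) (Fin m ⊕ Fin m) F) - 1).mulVecLin
  have hq' : Nat.card F = q := by rw [Nat.card_eq_fintype_card, hq]
  refine ⟨?_, ?_⟩
  · have := h.finrank_eq hH
    simp at this
    omega
  let b := h.frame.basis hH
  let e : ((ι → F) × (ι → F) × (Fin l ⊕ Fin l → F)) ≃ₗ[F] (Fin m ⊕ Fin m → F) :=
    ((LinearEquiv.prodAssoc F (ι → F) (ι → F) (Fin l ⊕ Fin l → F)).symm.trans
      ((LinearEquiv.prodCongr (LinearEquiv.sumArrowLequivProdArrow ι ι F F).symm
        (LinearEquiv.refl F _)).trans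
        ((LinearEquiv.sumArrowLequivProdArrow (ι ⊕ ι) (Fin l ⊕ Fin l) F F).symm.trans
          b.equivFun.symm)))
  have he0 : ∀ x, e x = ∑ s, (Sum.elim (Sum.elim x.1 x.2.1) x.2.2) s • family N w y s := by
    intro x
    simp only [e, LinearEquiv.trans_apply, Module.Basis.equivFun_symm_apply]
    refine Finset.sum_congr rfl fun s _ => ?_
    rw [h.frame.basis_apply]
    congr 1

  have he : ∀ x x', stdForm m F (e x) (e x') =
      modelForm (frameForm π) (frameForm Sum.swap) x x' := by
    intro x x'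
    rw [stdForm_eq_sympForm, he0, he0, hH.sum_left]
    have : ∀ (z : (ι ⊕ ι) ⊕ (Fin l ⊕ Fin l) → F) s,
        Cfsg.sympForm m F (family N w y s) (∑ r, z r • family N w y r) =
          z (shape π Sum.swap s) := by
      intro z s
      rw [hH.sum_right, Finset.sum_eq_single (shape π Sum.swap s)]
      · rw [hH.smul_right, h.frame.gram, if_pos rfl, mul_one]; rfl
      · intro r _ hr
        rw [hH.smul_right, h.frame.gram, if_neg hr, mul_zero]
      · simp
    simp only [hH.smul_left, this]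
    simp only [Fintype.sum_sum_type (α₁ := ι ⊕ ι), Fintype.sum_sum_type (α₁ := ι)]
    rfl
  have heN : ∀ x, e (modelN (F := F) x) = N (e x) := by
    intro x
    rw [he0, he0, map_sum]
    simp only [map_smul, Fintype.sum_sum_type (α₁ := ι ⊕ ι), Fintype.sum_sum_type (α₁ := ι)]
    simp [modelN_apply, family, hN.sq, h.ker]
  rw [card_centralizer_eq, card_commutant (isSympForm_stdForm m F) N e he heN,
    card_modelCent_eq (frameForm_symm hπ) (frameForm_nondeg hπ) (isSympForm_swap l) hq',
    Symplectic.card_isom (isSympForm_swap l) hq' (m := l) (by simp; ring)]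
  rw [← Fin.prod_univ_eq_prod_range (fun i => q ^ (2 * (i + 1)) - 1)]
  simp [two_mul]

omit [Fintype F] in
theorem frameForm_id_self {s : ℕ} (x : Fin s → F) :
    frameForm id x x = frameForm id (fun _ => 1) x ^ 2 := by
  simp only [frameForm_apply, id, one_mul]
  rw [sum_pow_char 2]
  exact Finset.sum_congr rfl fun i _ => (pow_two _).symm

/-- The order of the isometry group of the dot product in odd dimension. -/
theorem card_dot_odd (hq : Fintype.card F = q) (j : ℕ) :
    Nat.card (Isom (frameForm (F := F) (id : Fin (2 * j + 1) → Fin (2 * j + 1)))) =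
      q ^ j ^ 2 * ∏ i : Fin j, (q ^ (2 * ((i : ℕ) + 1)) - 1) := by
  have hid : Function.Involutive (id : Fin (2 * j + 1) → Fin (2 * j + 1)) := fun _ => rfl
  have huu : frameForm (F := F) (id : Fin (2 * j + 1) → Fin (2 * j + 1)) (fun _ => 1) (fun _ => 1)
      = 1 := by
    simp [frameForm_apply, CharTwo.two_eq_zero (R := F)]
  have hne : frameForm (F := F) (id : Fin (2 * j + 1) → Fin (2 * j + 1)) (fun _ => 1) ≠ 0 :=
    fun h => by rw [h] at huu; simp at huu
  have hdim := Module.Dual.finrank_ker_add_one_of_ne_zero hne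
  rw [Module.finrank_fin_fun] at hdim
  rw [card_isom_odd (frameForm_symm hid) (frameForm_nondeg hid) frameForm_id_self huu,
    Symplectic.card_isom (isSympForm_odd frameForm_id_self (frameForm_nondeg hid)
      (frameForm_symm hid) huu) (by rw [Nat.card_eq_fintype_card, hq]) (m := j) (by omega),
    ← Fin.prod_univ_eq_prod_range (fun i => q ^ (2 * (i + 1)) - 1)]

/-- The order of the isometry group of the dot product in even dimension. -/
theorem card_dot_even (hq : Fintype.card F = q) (j : ℕ) :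
    Nat.card (Isom (frameForm (F := F) (id : Fin (2 * j + 2) → Fin (2 * j + 2)))) =
      q ^ (2 * j + 1) * (q ^ j ^ 2 * ∏ i : Fin j, (q ^ (2 * ((i : ℕ) + 1)) - 1)) := by
  classical
  set β := frameForm (F := F) (id : Fin (2 * j + 2) → Fin (2 * j + 2)) with hβ
  have hid : Function.Involutive (id : Fin (2 * j + 2) → Fin (2 * j + 2)) := fun _ => rfl
  let u : Fin (2 * j + 2) → F := fun _ => 1
  let v : Fin (2 * j + 2) → F := Pi.single 0 1
  have huu : β u u = 0 := by
    simp [β, u, frameForm_apply, CharTwo.two_eq_zero (R := F)]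
  have huv : β u v = 1 := by simp [β, u, v, frameForm_apply]
  have hsym := frameForm_symm (F := F) hid
  have hnd := frameForm_nondeg (F := F) hid
  obtain ⟨hvu, hvv, -⟩ : β v u = 1 ∧ β v v = 1 ∧ _ :=
    even_facts hsym frameForm_id_self huu huv
  have hq' : Nat.card F = q := by rw [Nat.card_eq_fintype_card, hq]
  have hne : β u ≠ 0 := fun h => by rw [h] at huv; simp at huv
  have hdim := Module.Dual.finrank_ker_add_one_of_ne_zero hne
  rw [Module.finrank_fin_fun] at hdim
  have hsurj : Function.Surjective ((β u).prod (β v)) := fun ab =>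
    ⟨ab.1 • v + (ab.2 - ab.1) • u, by simp [huu, huv, hvu, hvv]⟩
  have hdim2 := LinearMap.finrank_range_add_finrank_ker ((β u).prod (β v))
  rw [LinearMap.range_eq_top.mpr hsurj, finrank_top, LinearMap.ker_prod, Module.finrank_prod,
    Module.finrank_self, Module.finrank_fin_fun] at hdim2
  have hH : finrank F (evenPerp β u v) = 2 * j := by unfold evenPerp; omega
  rw [card_isom_even hsym hnd frameForm_id_self huu huv,
    Symplectic.card_isom (isSympForm_even hsym hnd frameForm_id_self huu huv) hq' hH,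
    Nat.card_congr (affEquiv (B := β) (v := v) huv), card_sub hq',
    ← Fin.prod_univ_eq_prod_range (fun i => q ^ (2 * (i + 1)) - 1)]
  congr 2
  omega

/-- The order of the isometry group of a hyperbolic alternating form. -/
theorem card_swap (hq : Fintype.card F = q) (j : ℕ) :
    Nat.card (Isom (frameForm (F := F) (Sum.swap : Fin j ⊕ Fin j → Fin j ⊕ Fin j))) =
      q ^ j ^ 2 * ∏ i : Fin j, (q ^ (2 * ((i : ℕ) + 1)) - 1) := by
  rw [Symplectic.card_isom (isSympForm_swap j) (by rw [Nat.card_eq_fintype_card, hq]) (m := j)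
      (by simp; ring), ← Fin.prod_univ_eq_prod_range (fun i => q ^ (2 * (i + 1)) - 1)]

theorem half_mul_succ (s l : ℕ) :
    2 * (s + l) * s - (3 * s ^ 2 - s) / 2 = s * (2 * l) + s * (s + 1) / 2 := by
  obtain ⟨j, rfl | rfl⟩ : ∃ j, s = 2 * j ∨ s = 2 * j + 1 := ⟨s / 2, by omega⟩ <;>
    have := Nat.le_self_pow two_ne_zero j <;> ring_nf <;> omega

variable (t : Matrix.symplecticGroup (Fin m) F)

theorem finrank_range_eq {s : ℕ}
    (hs : ((t : Matrix (Fin m ⊕ Fin m) (Fin m ⊕ Fin m) F) - 1).rank = s) :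
    finrank F (LinearMap.range ((t : Matrix (Fin m ⊕ Fin m) (Fin m ⊕ Fin m) F) - 1).mulVecLin)
      = s := hs

/-- The centraliser when the twisted form is alternating. -/
theorem card_centralizer_alt (hq : Fintype.card F = q) (ht : t ^ 2 = 1) {s : ℕ}
    (hs : ((t : Matrix (Fin m ⊕ Fin m) (Fin m ⊕ Fin m) F) - 1).rank = s)
    (halt : ∀ v, Cfsg.sympForm m F v
      ((t : Matrix (Fin m ⊕ Fin m) (Fin m ⊕ Fin m) F).mulVec v) = 0) :
    Nat.card ↥(Subgroup.centralizer ({t} : Set ↥(Matrix.symplecticGroup (Fin m) F))) =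
      q ^ (2 * m * s - (3 * s ^ 2 - s) / 2) *
        (q ^ ((s / 2) ^ 2) * ∏ i : Fin (s / 2), (q ^ (2 * ((i : ℕ) + 1)) - 1)) *
        (q ^ ((m - s) ^ 2) * ∏ i : Fin (m - s), (q ^ (2 * ((i : ℕ) + 1)) - 1)) := by
  have hH := Char2Inv.Symplectic.sympForm_isHerm (F := F) (m := m)
  have hN := isSqZero_sub_one t ht
  obtain ⟨k, l, w, y, hnf⟩ := Char2Inv.Symplectic.exists_nf_alt hH Char2Inv.Symplectic.sympForm_self
    hN Char2Inv.Symplectic.sympForm_nondeg (fun v => by rw [Char2Inv.Symplectic.twist_eq]; exact halt v)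
  obtain ⟨hm, hc⟩ := card_of_NF hq t Sum.swap_leftInverse hnf hN
  have hk := (hnf.finrank_range hH hN).symm.trans (finrank_range_eq t hs)
  simp only [Fintype.card_sum, Fintype.card_fin] at hk hm hc
  subst hk hm
  rw [hc, card_swap hq, show (k + k) / 2 = k by omega, show k + k + l - (k + k) = l by omega,
    half_mul_succ]
  ring

/-- The centraliser when the twisted form is not alternating. -/
theorem card_centralizer_nonalt (hq : Fintype.card F = q) (ht : t ^ 2 = 1) {s : ℕ}
    (hs : ((t : Matrix (Fin m ⊕ Fin m) (Fin m ⊕ Fin m) F) - 1).rank = s)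
    (hna : ∃ v, Cfsg.sympForm m F v
      ((t : Matrix (Fin m ⊕ Fin m) (Fin m ⊕ Fin m) F).mulVec v) ≠ 0) :
    s ≠ 0 ∧ s ≤ m ∧
    Nat.card ↥(Subgroup.centralizer ({t} : Set ↥(Matrix.symplecticGroup (Fin m) F))) =
      q ^ (2 * m * s - (3 * s ^ 2 - s) / 2) *
        Nat.card (Isom (frameForm (F := F) (id : Fin s → Fin s))) *
        (q ^ ((m - s) ^ 2) * ∏ i : Fin (m - s), (q ^ (2 * ((i : ℕ) + 1)) - 1)) := by
  have hH := Char2Inv.Symplectic.sympForm_isHerm (F := F) (m := m)
  have hN := isSqZero_sub_one t ht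
  obtain ⟨v, hv⟩ := hna
  rw [← Char2Inv.Symplectic.twist_eq] at hv
  obtain ⟨k, l, w, y, hnf⟩ := Char2Inv.Symplectic.exists_nf_odd hH Char2Inv.Symplectic.sympForm_self
    hN Char2Inv.Symplectic.sympForm_nondeg ⟨v, hv⟩
  obtain ⟨hm, hc⟩ := card_of_NF hq t (π := (id : Fin k → Fin k)) (fun _ => rfl) hnf hN
  have hr := finrank_range_eq t hs
  have hk := (hnf.finrank_range hH hN).symm.trans hr
  simp only [Fintype.card_fin] at hk hm hc
  subst hk hm
  refine ⟨fun h0 => hv ?_, by omega, ?_⟩
  · have hbot := Submodule.finrank_eq_zero.mp (hr.trans h0)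
    rw [LinearMap.range_eq_bot.mp hbot, LinearMap.zero_apply, hH.zero_right]
  · rw [hc, Nat.add_sub_cancel_left, half_mul_succ]
    ring

end Cfsg.Agent.Lib.SpUnipotent
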