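import Cfsg.Agent.Lib.SpUnipotent.Count

/-!
# The number of unipotent elements of a finite symplectic group

We sum `(-1)^d q^(d choose 2)` over the pairs of a `p`-element `g` and a totally isotropic
`d`-space fixed pointwise by `g`: only the identity contributes, and the recursion for the
fixers gives `q^(2m²)` elements of `p`-power order in `Sp_2m(q)`.
-/

set_option autoImplicit false

namespace Cfsg.Agent.Lib.SpUnipotent

open Module Symplectic Finset

universe u

variable {F : Type*} [Field F] [Finite F] {q : ℕ}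

theorem two_le (hq : Nat.card F = q) : (2 : ℤ) ≤ q := by
  have : 1 < Nat.card F := Finite.one_lt_card
  omega

theorem card_ne {α : Type*} [Finite α] (a : α) :
    (Nat.card {x : α // x ≠ a} : ℤ) = (Nat.card α : ℤ) - 1 := by
  classical
  have : Fintype α := Fintype.ofFinite α
  have h := Nat.card_congr (Equiv.optionSubtypeNe a)
  rw [Finite.card_option] at h
  omega

/-- The number of totally isotropic subspaces of each dimension. -/
theorem card_TI (hq : Nat.card F = q) : ∀ (m : ℕ) (V : Type u) [AddCommGroup V] [Module F V]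
    [Finite V] (B : V →ₗ[F] V →ₗ[F] F), IsSympForm B → finrank F V = 2 * m →
    ∀ d, (Nat.card (TI B d) : ℤ) = N q m d := by
  intro m
  induction m with
  | zero =>
    intro V _ _ _ B _ hm d
    have : FiniteDimensional F V := Module.Finite.of_finite
    cases d with
    | zero =>
      rw [N_zero_right]
      have : Unique (TI B 0) :=
        ⟨⟨⟨⊥, finrank_bot F V, fun x hx y _ => by simp [(Submodule.mem_bot F).mp hx]⟩⟩,
          fun W => Subtype.ext (Submodule.finrank_eq_zero.mp W.2.1)⟩
      simp
    | succ d =>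
      rw [N_eq_zero _ (Nat.succ_pos d)]
      have : IsEmpty (TI B (d + 1)) := ⟨fun W => by
        have := W.1.finrank_le; rw [W.2.1, hm] at this; omega⟩
      simp
  | succ m ih =>
    intro V _ _ _ B hB hm d
    have : FiniteDimensional F V := Module.Finite.of_finite
    cases d with
    | zero =>
      rw [N_zero_right]
      have : Unique (TI B 0) :=
        ⟨⟨⟨⊥, finrank_bot F V, fun x hx y _ => by simp [(Submodule.mem_bot F).mp hx]⟩⟩,
          fun W => Subtype.ext (Submodule.finrank_eq_zero.mp W.2.1)⟩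
      simp
    | succ d =>
      classical
      have e : (Σ W : TI B (d + 1), {z : W.1 // z ≠ 0}) ≃
          (Σ z : {z : V // z ≠ 0}, {W : TI B (d + 1) // z.1 ∈ W.1}) :=
        { toFun := fun a => ⟨⟨a.2.1, fun h => a.2.2 (Subtype.ext h)⟩, ⟨a.1, a.2.1.2⟩⟩
          invFun := fun b =>
            ⟨b.2.1, ⟨⟨b.1.1, b.2.2⟩, fun h => b.1.2 (congrArg Subtype.val h)⟩⟩
          left_inv := fun _ => rfl
          right_inv := fun _ => rfl }
      have := Fintype.ofFinite (TI B (d + 1))
      have := Fintype.ofFinite {z : V // z ≠ 0}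
      have h := congrArg (fun n : ℕ => (n : ℤ)) (Nat.card_congr e)
      simp only [Nat.card_sigma, Nat.cast_sum] at h
      have h1 : ∀ W : TI B (d + 1), (Nat.card {z : W.1 // z ≠ 0} : ℤ) = (q : ℤ) ^ (d + 1) - 1 := by
        intro W; rw [card_ne, card_sub hq, W.2.1]; push_cast; rfl
      have h2 : ∀ z : {z : V // z ≠ 0},
          (Nat.card {W : TI B (d + 1) // z.1 ∈ W.1} : ℤ) = N q m d := by
        intro z
        obtain ⟨v, hv⟩ := hB.exists_eq_one z.2
        rw [Nat.card_congr (throughEquiv hB hv d)]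
        exact ih _ _ (restr_pairPerp hB hv) (by have := finrank_pairPerp hB hv; omega) d
      simp only [h1, h2, Finset.sum_const, Finset.card_univ, nsmul_eq_mul,
        ← Nat.card_eq_fintype_card] at h
      have h3 : (Nat.card {z : V // z ≠ 0} : ℤ) = (q : ℤ) ^ (2 * (m + 1)) - 1 := by
        rw [card_ne, Module.natCard_eq_pow_finrank (K := F), hq, hm]; push_cast; rfl
      rw [h3, ← shift (q : ℤ) (two_le hq)] at h
      have hne : (q : ℤ) ^ (d + 1) - 1 ≠ 0 := by
        have : (1 : ℤ) < (q : ℤ) ^ (d + 1) := one_lt_pow₀ (by linarith [two_le hq]) (by omega)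
        linarith
      apply mul_left_cancel₀ hne
      linear_combination h

variable {V : Type u} [AddCommGroup V] [Module F V] [Finite V] {B : V →ₗ[F] V →ₗ[F] F}

theorem finrank_le_of_isTI (hq : Nat.card F = q) (hB : IsSympForm B) {m : ℕ}
    (hm : finrank F V = 2 * m) {W : Submodule F V} (h : IsTI B W) : finrank F W ≤ m := by
  by_contra hlt
  have := card_TI hq m V B hB hm (finrank F W)
  rw [N_eq_zero _ (by omega), Nat.cast_eq_zero] at this
  have : Nonempty (TI B (finrank F W)) := ⟨⟨W, rfl, h⟩⟩
  exact (Nat.card_pos (α := TI B (finrank F W))).ne' ‹_›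

/-- Summing over the totally isotropic subspaces by dimension. -/
theorem sum_TI (hq : Nat.card F = q) (hB : IsSympForm B) {m : ℕ} (hm : finrank F V = 2 * m)
    [Fintype {W : Submodule F V // IsTI B W}] (f : ℕ → ℤ) :
    ∑ W : {W : Submodule F V // IsTI B W}, f (finrank F W.1) =
      ∑ d ∈ range (m + 1), f d * N q m d := by
  classical
  rw [← Finset.sum_fiberwise_of_maps_to (t := range (m + 1))
    (g := fun W : {W : Submodule F V // IsTI B W} => finrank F W.1)
    fun W _ => mem_range.mpr (Nat.lt_succ_of_le (finrank_le_of_isTI hq hB hm W.2))]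
  refine Finset.sum_congr rfl fun d _ => ?_
  rw [Finset.sum_congr rfl fun W hW => by rw [(mem_filter.mp hW).2], Finset.sum_const,
    nsmul_eq_mul, ← card_TI hq m V B hB hm d, mul_comm]
  congr 2
  rw [← Fintype.card_subtype, ← Nat.card_eq_fintype_card]
  exact Nat.card_congr
    { toFun := fun W => ⟨W.1.1, W.2, W.1.2⟩
      invFun := fun W => ⟨⟨W.1, W.2.2⟩, W.2.1⟩
      left_inv := fun _ => rfl
      right_inv := fun _ => rfl }

theorem card_complements (hq : Nat.card F = q) {z : V} (hz : z ≠ 0) {T : Submodule F V}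
    (hzT : z ∈ T) :
    Nat.card {W : Submodule F V // z ∉ W ∧ W ⊔ F ∙ z = T} = q ^ (finrank F T - 1) := by
  classical
  have : FiniteDimensional F V := Module.Finite.of_finite
  have : Finite (Dual F T) := Module.finite_of_finite F
  set z' : T := ⟨z, hzT⟩ with hz'
  have hz'0 : z' ≠ 0 := fun h => hz (congrArg Subtype.val h)
  let ev : Dual F T →ₗ[F] F := LinearMap.applyₗ z'
  obtain ⟨φ₀, hφ₀⟩ : ∃ φ : Dual F T, φ z' = 1 := by
    obtain ⟨φ, hφ, -⟩ := Submodule.exists_dual_map_eq_bot_of_notMem
      (p := (⊥ : Submodule F T)) (by simpa using hz'0) inferInstance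
    exact ⟨(φ z')⁻¹ • φ, by simp [hφ]⟩
  have hev : finrank F (LinearMap.ker ev) = finrank F T - 1 := by
    have hs : Function.Surjective ev := fun c => ⟨c • φ₀, by simp [ev, hφ₀]⟩
    have := LinearMap.finrank_range_add_finrank_ker ev
    rw [LinearMap.range_eq_top.mpr hs, finrank_top, Module.finrank_self,
      Subspace.dual_finrank_eq] at this
    omega
  have e1 : {φ : Dual F T // φ z' = 1} ≃ LinearMap.ker ev :=
    Equiv.subtypeEquiv (Equiv.subRight φ₀) fun φ => by
      simp [ev, LinearMap.mem_ker, sub_eq_zero, hφ₀]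
  rw [← hev, ← card_sub (V := Dual F T) hq]
  symm
  refine (Nat.card_congr e1.symm).trans (Nat.card_eq_of_bijective
    (fun φ => ⟨(LinearMap.ker φ.1).map T.subtype, ?_, ?_⟩) ⟨?_, ?_⟩)
  · rintro ⟨x, hx, hxz⟩
    obtain rfl : x = z' := Subtype.ext hxz
    have := φ.2
    rw [LinearMap.mem_ker.mp hx] at this
    exact zero_ne_one this
  · refine le_antisymm (sup_le (Submodule.map_subtype_le _ _)
      ((Submodule.span_singleton_le_iff_mem _ _).mpr hzT)) fun x hx => ?_
    refine Submodule.mem_sup.mpr ⟨T.subtype ((⟨x, hx⟩ : T) - φ.1 ⟨x, hx⟩ • z'), ⟨_, ?_, rfl⟩,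
      φ.1 ⟨x, hx⟩ • z, Submodule.smul_mem _ _ (Submodule.mem_span_singleton_self z), ?_⟩
    · simp [φ.2]
    · simp [z']
  · rintro φ ψ h
    have hk : LinearMap.ker φ.1 = LinearMap.ker ψ.1 :=
      Submodule.map_injective_of_injective T.injective_subtype (congrArg Subtype.val h)
    refine Subtype.ext (LinearMap.ext fun x => ?_)
    have : x - φ.1 x • z' ∈ LinearMap.ker ψ.1 := by rw [← hk]; simp [φ.2]
    simp [ψ.2] at this
    linear_combination -this
  · rintro ⟨W, hzW, rfl⟩
    obtain ⟨f, hf, hfW⟩ := Submodule.exists_dual_map_eq_bot_of_notMem hzW inferInstance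
    have hfW' : ∀ w ∈ W, f w = 0 := fun w hw => by
      have : f w ∈ W.map f := ⟨w, hw, rfl⟩
      rwa [hfW, Submodule.mem_bot] at this
    refine ⟨⟨((f z)⁻¹ • f).comp (W ⊔ F ∙ z).subtype, by simp [z', hf]⟩, Subtype.ext ?_⟩
    ext x
    constructor
    · rintro ⟨y, hy, rfl⟩
      obtain ⟨w, hw, b, hb, hyb⟩ := Submodule.mem_sup.mp y.2
      obtain ⟨c, rfl⟩ := Submodule.mem_span_singleton.mp hb
      have h0 : f (y : V) = 0 := by simpa [hf] using hy
      rw [← hyb, map_add, hfW' w hw, zero_add, map_smul, smul_eq_mul, mul_eq_zero] at h0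
      obtain rfl := h0.resolve_right hf
      rw [zero_smul, add_zero] at hyb
      show (y : V) ∈ W
      rwa [← hyb]
    · intro hx
      exact ⟨⟨x, Submodule.mem_sup_left hx⟩, by simp [hfW' x hx], rfl⟩

/-- The alternating sum over the totally isotropic subspaces of a degenerate space vanishes. -/
theorem sum_cone (hq : Nat.card F = q) (hB : IsSympForm B) {U : Submodule F V} {z : V}
    (hz : z ≠ 0) (hzU : z ∈ U) (hrad : ∀ x ∈ U, B z x = 0)
    (s : Finset (Submodule F V)) (hs : ∀ W, W ∈ s ↔ IsTI B W ∧ W ≤ U) :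
    ∑ W ∈ s, w (q : ℤ) (finrank F W) = 0 := by
  classical
  have : FiniteDimensional F V := Module.Finite.of_finite
  have : Fintype (Submodule F V) := Fintype.ofFinite _
  have hT : ∀ W ∈ s, W ⊔ F ∙ z ∈ s.filter (z ∈ ·) := by
    intro W hW
    obtain ⟨hTI, hle⟩ := (hs W).mp hW
    refine mem_filter.mpr ⟨(hs _).mpr ⟨?_, sup_le hle
      ((Submodule.span_singleton_le_iff_mem _ _).mpr hzU)⟩,
      Submodule.mem_sup_right (Submodule.mem_span_singleton_self z)⟩
    intro x hx y hy
    obtain ⟨a, ha, x', hx', rfl⟩ := Submodule.mem_sup.mp hx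
    obtain ⟨c, rfl⟩ := Submodule.mem_span_singleton.mp hx'
    obtain ⟨b, hb, y', hy', rfl⟩ := Submodule.mem_sup.mp hy
    obtain ⟨d, rfl⟩ := Submodule.mem_span_singleton.mp hy'
    simp [hTI a ha b hb, hB.self, hrad b (hle hb), hB.comm_eq_zero.mp (hrad a (hle ha))]
  rw [← Finset.sum_fiberwise_of_maps_to (g := fun W => W ⊔ F ∙ z) hT]
  refine Finset.sum_eq_zero fun T hTm => ?_
  obtain ⟨hTs, hzT⟩ := mem_filter.mp hTm
  obtain ⟨k, hk⟩ : ∃ k, finrank F T = k + 1 := by
    refine ⟨finrank F T - 1, ?_⟩
    have : finrank F T ≠ 0 := fun h => hz ((Submodule.mem_bot F).mp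
      ((Submodule.finrank_eq_zero.mp h) ▸ hzT))
    omega
  set A : Finset (Submodule F V) := Finset.univ.filter fun W => z ∉ W ∧ W ⊔ F ∙ z = T with hA
  have hfil : s.filter (fun W => W ⊔ F ∙ z = T) = insert T A := by
    ext W
    simp only [hA, mem_filter, mem_insert, mem_univ, true_and]
    constructor
    · rintro ⟨-, h2⟩
      by_cases hzW : z ∈ W
      · left; rwa [sup_eq_left.mpr ((Submodule.span_singleton_le_iff_mem _ _).mpr hzW)] at h2
      · exact Or.inr ⟨hzW, h2⟩
    · rintro (rfl | ⟨-, h2⟩)
      · exact ⟨hTs, sup_eq_left.mpr ((Submodule.span_singleton_le_iff_mem _ _).mpr hzT)⟩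
      · have hle : W ≤ T := h2 ▸ le_sup_left
        obtain ⟨h3, h4⟩ := (hs T).mp hTs
        exact ⟨(hs W).mpr ⟨fun x hx y hy => h3 x (hle hx) y (hle hy), hle.trans h4⟩, h2⟩
  have hAw : ∀ W ∈ A, w (q : ℤ) (finrank F W) = w (q : ℤ) k := by
    intro W hW
    simp only [hA, mem_filter, mem_univ, true_and] at hW
    have := Submodule.finrank_sup_add_finrank_inf_eq W (F ∙ z)
    have hinf : W ⊓ F ∙ z = ⊥ := by
      rw [eq_bot_iff]
      rintro x ⟨hx, hx'⟩
      obtain ⟨c, rfl⟩ := Submodule.mem_span_singleton.mp hx'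
      by_contra hne
      have hc : c ≠ 0 := by rintro rfl; simp at hne
      exact hW.1 ((W.smul_mem_iff hc).mp hx)
    rw [hW.2, hk, hinf, finrank_bot, finrank_span_singleton hz] at this
    congr 1
    omega
  rw [hfil, Finset.sum_insert (by simp [hA, hzT]), Finset.sum_congr rfl hAw, Finset.sum_const,
    nsmul_eq_mul, hk, w_succ,
    show A.card = q ^ k by
      rw [hA, ← Fintype.card_subtype, ← Nat.card_eq_fintype_card, card_complements hq hz hzT, hk,
        Nat.add_sub_cancel]]
  push_cast
  ring

variable (p : ℕ) [Fact p.Prime] [CharP F p]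

/-- A non-trivial `p`-element fixes a vector orthogonal to all its fixed vectors. -/
theorem exists_radical (hB : IsSympForm B) {g : Isom B} (hg : PEl p g) (h1 : g ≠ 1) :
    ∃ z : V, z ≠ 0 ∧ g • z = z ∧ ∀ x, g • x = x → B z x = 0 := by
  have : Fintype F := Fintype.ofFinite F
  have : FiniteDimensional F V := Module.Finite.of_finite
  let R : Submodule F V :=
    LinearMap.range (((g : V ≃ₗ[F] V).toLinearMap) - LinearMap.id)
  let S : SubMulAction (Subgroup.zpowers g) V :=
    { carrier := R
      smul_mem' := by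
        rintro h _ ⟨x, rfl⟩
        refine ⟨(h : Isom B) • x, ?_⟩
        obtain ⟨n, hn⟩ := h.2
        show g • ((h : Isom B) • x) - (h : Isom B) • x = (h : Isom B) • (g • x - x)
        rw [smul_sub, ← mul_smul, ← mul_smul, ← hn, ((Commute.refl g).zpow_right n).eq] }
  have hR : finrank F R ≠ 0 := fun h0 => h1 (isom_ext fun x => by
    have : g • x - x ∈ R := ⟨x, rfl⟩
    rw [Submodule.finrank_eq_zero.mp h0, Submodule.mem_bot, sub_eq_zero] at this
    rw [this, one_smul])
  obtain ⟨n, hp, hn⟩ := FiniteField.card F p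
  have hdvd : p ∣ Nat.card S := by
    show p ∣ Nat.card R
    rw [card_sub (q := p ^ (n : ℕ)) (by rw [Nat.card_eq_fintype_card, hn]), ← pow_mul]
    exact dvd_pow_self p (Nat.mul_ne_zero n.pos.ne' hR)
  have hPG : IsPGroup p (Subgroup.zpowers g) := by
    obtain ⟨k, hk⟩ := hg
    obtain ⟨j, -, hj⟩ := (Nat.dvd_prime_pow Fact.out).mp (orderOf_dvd_of_pow_eq_one hk)
    exact IsPGroup.of_card (n := j) (by rw [Nat.card_zpowers, hj])
  let o : S := ⟨0, zero_mem R⟩
  obtain ⟨b, hb, hbo⟩ := hPG.exists_fixed_point_of_prime_dvd_card_of_fixed_point S hdvd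
    (a := o) (fun h => Subtype.ext (smul_zero _))
  obtain ⟨y, hy⟩ := b.2
  refine ⟨b.1, fun h => hbo (Subtype.ext h.symm),
    congrArg Subtype.val (hb ⟨g, Subgroup.mem_zpowers g⟩), fun x hx => ?_⟩
  rw [← hy]
  show B (g • y - y) x = 0
  rw [map_sub, LinearMap.sub_apply, sub_eq_zero]
  conv_lhs => rw [← hx]
  rw [isom_apply_smul]

/-- The number of `p`-elements fixing a totally isotropic subspace pointwise. -/
theorem card_fixer_eq (hq : Nat.card F = q) : ∀ (m : ℕ) (V : Type u) [AddCommGroup V]
    [Module F V] [Finite V] (B : V →ₗ[F] V →ₗ[F] F), IsSympForm B → finrank F V = 2 * m →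
    ∀ (d : ℕ) (W : Submodule F V), IsTI B W → finrank F W = d →
    (q : ℤ) ^ d.choose 2 * Nat.card (Fixer B p W) =
      (q : ℤ) ^ (d * (2 * m - d) + 2 * (m - d) ^ 2) := by
  intro m
  induction m with
  | zero =>
    intro V _ _ _ B hB hm d W hW hd
    have : FiniteDimensional F V := Module.Finite.of_finite
    obtain rfl : d = 0 := by have := W.finrank_le; omega
    have : Unique (Fixer B p W) :=
      ⟨⟨⟨1, fun x _ => one_smul _ x, 0, by simp⟩⟩,
        fun g => Subtype.ext (isom_eq_one_of_finrank_zero (by rw [hm]) g.1)⟩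
    simp
  | succ m ih =>
    intro V _ _ _ B hB hm d W hW hd
    classical
    have : FiniteDimensional F V := Module.Finite.of_finite
    have hpos : ∀ (d : ℕ) (W : Submodule F V), IsTI B W → finrank F W = d + 1 →
        (q : ℤ) ^ (d + 1).choose 2 * Nat.card (Fixer B p W) =
          (q : ℤ) ^ ((d + 1) * (2 * (m + 1) - (d + 1)) + 2 * (m + 1 - (d + 1)) ^ 2) := by
      intro d W hW hd
      obtain ⟨z, hzW, hz⟩ := W.exists_mem_ne_zero_of_ne_bot
        (fun h => by rw [h, finrank_bot] at hd; omega)
      obtain ⟨v, hv⟩ := hB.exists_eq_one hz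
      have hdim := finrank_pairPerp hB hv
      have hle : d + 1 ≤ m + 1 := hd ▸ finrank_le_of_isTI hq hB hm hW
      have hdown := finrank_down hB hv hW hzW
      rw [card_fixer hB hv p hq hW hzW, hm, hd]
      have := ih _ _ (restr_pairPerp hB hv) (by omega) d (down z v W) (isTI_down hW) (by omega)
      obtain ⟨k, rfl⟩ : ∃ k, m = d + k := ⟨m - d, by omega⟩
      rw [show d + k - d = k by omega, show 2 * (d + k) - d = d + 2 * k by omega] at this
      rw [show 2 * (d + k + 1) - (d + 1) = d + 2 * k + 1 by omega,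
        show d + k + 1 - (d + 1) = k by omega, Nat.choose_succ_succ', Nat.choose_one_right]
      push_cast
      linear_combination (q : ℤ) ^ (2 * d + 2 * k + 1) * this
    cases d with
    | succ d => exact hpos d W hW hd
    | zero =>
      obtain rfl : W = ⊥ := Submodule.finrank_eq_zero.mp hd
      have := Fintype.ofFinite {W : Submodule F V // IsTI B W}
      have : Finite (Isom B) := Finite.of_injective
        (fun (g : Isom B) (x : V) => g • x) fun g h e => isom_ext fun x => congrFun e x
      have := Fintype.ofFinite {g : Isom B // PEl p g}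
      let Fix : {g : Isom B // PEl p g} → Submodule F V := fun g =>
        LinearMap.ker (((g.1 : V ≃ₗ[F] V).toLinearMap) - LinearMap.id)
      have hFix : ∀ (g : {g : Isom B // PEl p g}) (W : Submodule F V),
          W ≤ Fix g ↔ ∀ x ∈ W, g.1 • x = x := fun g W =>
        forall₂_congr fun x _ => by simp [Fix, sub_eq_zero, isom_smul_def]
      have hcard : ∀ W : Submodule F V, (Nat.card (Fixer B p W) : ℤ) =
          ∑ g : {g : Isom B // PEl p g}, if W ≤ Fix g then (1 : ℤ) else 0 := by
        intro W
        rw [Finset.sum_boole, ← Fintype.card_subtype, ← Nat.card_eq_fintype_card]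
        refine congrArg _ (Nat.card_congr
          { toFun := fun g => ⟨⟨g.1, g.2.2⟩, (hFix _ W).mpr g.2.1⟩
            invFun := fun g => ⟨g.1.1, (hFix g.1 W).mp g.2, g.1.2⟩
            left_inv := fun _ => rfl
            right_inv := fun _ => rfl })
      let g₁ : {g : Isom B // PEl p g} := ⟨1, 0, by simp⟩
      have hrow : ∀ g : {g : Isom B // PEl p g},
          ∑ W : {W : Submodule F V // IsTI B W},
            w (q : ℤ) (finrank F W.1) * (if W.1 ≤ Fix g then (1 : ℤ) else 0) =
          if g = g₁ then (-1 : ℤ) ^ (m + 1) * (q : ℤ) ^ (m + 1) ^ 2 else 0 := by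
        intro g
        split_ifs with hg
        · subst hg
          rw [← sum_w, ← sum_TI hq hB hm]
          refine Finset.sum_congr rfl fun W _ => ?_
          rw [if_pos ((hFix _ _).mpr fun x _ => one_smul _ x), mul_one]
        · obtain ⟨z, hz, hgz, hrad⟩ := exists_radical p hB g.2 fun h => hg (Subtype.ext h)
          have hFix' : ∀ x : V, x ∈ Fix g ↔ g.1 • x = x := fun x => by
            simp [Fix, sub_eq_zero, isom_smul_def]
          simp only [mul_ite, mul_one, mul_zero]
          rw [← Finset.sum_filter]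
          refine (Finset.sum_map _ ⟨Subtype.val, Subtype.val_injective⟩
            (fun W : Submodule F V => w (q : ℤ) (finrank F W))).symm.trans ?_
          refine sum_cone hq hB hz ((hFix' z).mpr hgz)
            (fun x hx => hrad x ((hFix' x).mp hx)) _ fun W => ?_
          simp [and_comm]
      have htot : ∑ W : {W : Submodule F V // IsTI B W},
          w (q : ℤ) (finrank F W.1) * Nat.card (Fixer B p W.1) =
          (-1 : ℤ) ^ (m + 1) * (q : ℤ) ^ (m + 1) ^ 2 := by
        simp only [hcard, Finset.mul_sum]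
        rw [Finset.sum_comm, Finset.sum_congr rfl fun g _ => hrow g, Finset.sum_ite_eq',
          if_pos (Finset.mem_univ _)]
      set U : ℤ := ((Nat.card (Fixer B p (⊥ : Submodule F V)) : ℕ) : ℤ) with hU
      let E : ℕ → ℤ := fun d => (-1 : ℤ) ^ d * (q : ℤ) ^ ((m + 1 - d) ^ 2 + (m + 1) ^ 2)
      have hterm : ∀ W : {W : Submodule F V // IsTI B W},
          w (q : ℤ) (finrank F W.1) * Nat.card (Fixer B p W.1) =
            E (finrank F W.1) + if finrank F W.1 = 0 then U - E 0 else 0 := by
        intro W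
        have hle := finrank_le_of_isTI hq hB hm W.2
        rcases hk : finrank F W.1 with _ | k
        · rw [if_pos rfl, Submodule.finrank_eq_zero.mp hk, ← hU, w]
          simp
        · rw [hk] at hle
          rw [if_neg (Nat.succ_ne_zero k), add_zero, w, mul_assoc, hpos k W.1 W.2 hk]
          obtain ⟨l, hl⟩ : ∃ l, m = k + l := ⟨m - k, by omega⟩
          subst hl
          simp only [E]
          rw [show k + l + 1 - (k + 1) = l by omega,
            show 2 * (k + l + 1) - (k + 1) = k + 2 * l + 1 by omega]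
          congr 2
          ring
      rw [Finset.sum_congr rfl fun W _ => hterm W,
        sum_TI hq hB hm fun d => E d + if d = 0 then U - E 0 else 0] at htot
      simp only [add_mul, Finset.sum_add_distrib, ite_mul, zero_mul, Finset.sum_ite_eq',
        Finset.mem_range, Nat.succ_pos, if_true, N_zero_right, mul_one] at htot
      have hsq : ∑ d ∈ range (m + 1 + 1), E d * N q (m + 1) d =
          (q : ℤ) ^ (m + 1) ^ 2 * (-1) ^ (m + 1) := by
        rw [← sum_sq (q : ℤ) (m + 1), Finset.mul_sum]
        exact Finset.sum_congr rfl fun d _ => by simp only [E, pow_add]; ring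
      rw [hsq] at htot
      have hU' : U = E 0 := by linear_combination htot
      simp only [Nat.choose_zero_succ, pow_zero, one_mul, zero_mul, zero_add, Nat.sub_zero,
        ← hU, hU', E]
      ring

/-- The number of elements of `p`-power order of a symplectic group. -/
theorem card_pel (hq : Nat.card F = q) (hB : IsSympForm B) {m : ℕ}
    (hm : finrank F V = 2 * m) : Nat.card {g : Isom B // PEl p g} = q ^ (2 * m ^ 2) := by
  have : FiniteDimensional F V := Module.Finite.of_finite
  have h := card_fixer_eq p hq m V B hB hm 0 ⊥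
    (fun x hx y _ => by simp [(Submodule.mem_bot F).mp hx]) (finrank_bot F V)
  simp only [Nat.choose_zero_succ, pow_zero, one_mul, zero_mul, zero_add, Nat.sub_zero] at h
  have e : Fixer B p (⊥ : Submodule F V) ≃ {g : Isom B // PEl p g} :=
    Equiv.subtypeEquivRight fun g =>
      ⟨And.right, fun hg => ⟨fun x hx => by rw [(Submodule.mem_bot F).mp hx, smul_zero], hg⟩⟩
  rw [Nat.card_congr e] at h
  exact_mod_cast h

end Cfsg.Agent.Lib.SpUnipotent
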