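import Cfsg.Agent.Lib.SpUnipotent.InvCentMain
import Cfsg.Agent.Lib.Char2Inv.OrthMatrixOmega
import Cfsg.Agent.Lib.Forms.Bridge

/-!
# Centraliser orders of involutions of `Ω⁺_2m(q)`, `q` even

The symplectic centraliser of an involution `t` of `O(Q)` permutes the quadratic forms
`Q + B(v,·)²` with `t v = v` that are isometric to `Q`; these are counted by Gauss sums for the
character `c ↦ ±1` of `F / {y² + y}`.
-/

set_option autoImplicit false

namespace Cfsg.Agent.Lib.SpUnipotent.OrthCent

open Module Symplectic QuadraticMap Finset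
open Cfsg.Agent.Lib.Char2Inv.Normal (IsSqZero)
open Cfsg.Agent.Lib.Forms (Nondeg qPlus qPlus_apply qPlus_nondeg Q_add Q_smul orth_polar
  orefl refl refl_apply dickson dicksonHom dickson_orefl isoOrth isoOrth_apply)

variable (F : Type*) [Field F] [Fintype F] [CharP F 2]

omit [Fintype F] in
theorem two_eq : (2 : F) = 0 := CharTwo.two_eq_zero

/-- The additive map `y ↦ y + y²`. -/
def asMap : F →+ F where
  toFun t := t + t * t
  map_zero' := by simp
  map_add' s t := by linear_combination (s * t) * (CharTwo.two_eq_zero (R := F))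

theorem asMap_index : (asMap F).range.index = 2 := by
  have hker : Nat.card (asMap F).ker = 2 := by
    have : ((asMap F).ker : Set F) = {0, 1} := by
      ext t
      simp only [SetLike.mem_coe, AddMonoidHom.mem_ker, Set.mem_insert_iff,
        Set.mem_singleton_iff]
      show t + t * t = 0 ↔ _
      rw [show t + t * t = t * (1 + t) by ring, mul_eq_zero, CharTwo.add_eq_zero,
        eq_comm (a := (1 : F))]
    rw [← SetLike.coe_sort_coe, this, Nat.card_coe_set_eq, Set.ncard_pair zero_ne_one]
  have h1 := (asMap F).range.card_mul_index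
  have h2 := (asMap F).ker.card_mul_index
  rw [AddSubgroup.index_ker, hker] at h2
  rw [← h2, mul_comm 2] at h1
  exact mul_left_cancel₀ (Nat.card_pos (α := (asMap F).range)).ne' h1

variable {F}

/-- The non-trivial additive character of `F / {y + y²}`. -/
noncomputable def chi (c : F) : ℤ := by
  classical exact if c ∈ (asMap F).range then 1 else -1

theorem chi_eq_one_or (c : F) : chi c = 1 ∨ chi c = -1 := by
  unfold chi; split_ifs <;> simp

theorem chi_eq_one_iff {c : F} : chi c = 1 ↔ ∃ y, y + y * y = c := by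
  unfold chi
  split_ifs with h
  · exact iff_of_true rfl h
  · exact iff_of_false (by decide) h

theorem chi_zero : chi (0 : F) = 1 := chi_eq_one_iff.mpr ⟨0, by simp⟩

theorem chi_add (a b : F) : chi (a + b) = chi a * chi b := by
  have := AddSubgroup.add_mem_iff_of_index_two (asMap_index F) (a := a) (b := b)
  unfold chi
  split_ifs <;> simp_all

theorem chi_sq_add (c : F) : chi (c + c * c) = 1 := chi_eq_one_iff.mpr ⟨c, rfl⟩

theorem chi_sq (c : F) : chi (c * c) = chi c := by
  have h := chi_sq_add c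
  rw [chi_add] at h
  rcases chi_eq_one_or c with h1 | h1 <;> rw [h1] at h ⊢ <;> linarith

theorem exists_chi_neg : ∃ c : F, chi c = -1 := by
  by_contra h
  push Not at h
  have : (asMap F).range = ⊤ := eq_top_iff.mpr fun c _ =>
    chi_eq_one_iff.mp ((chi_eq_one_or c).resolve_right (h c))
  have h2 := asMap_index F
  rw [this, AddSubgroup.index_top] at h2
  omega

/-- A sum over an additive group of a function flipped by a translation vanishes. -/
theorem sum_eq_zero_of_flip {A : Type*} [AddCommGroup A] [Fintype A] (f : A → ℤ) (a : A)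
    (h : ∀ x, f (x + a) = -f x) : ∑ x, f x = 0 := by
  have := Fintype.sum_equiv (Equiv.addRight a) (fun x => f (x + a)) f fun x => rfl
  simp only [h, Finset.sum_neg_distrib] at this
  linarith

variable {m : ℕ}

local notation "𝕍" => (Fin m ⊕ Fin m → F)

omit [Fintype F] in
theorem polar_eq (x y : 𝕍) : polar (qPlus m) x y = stdForm m F x y := by
  rw [polar, qPlus_apply, qPlus_apply, qPlus_apply, stdForm_apply, ← Finset.sum_sub_distrib,
    ← Finset.sum_sub_distrib]
  exact Finset.sum_congr rfl fun i _ => by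
    simp only [Pi.add_apply]
    linear_combination (x (Sum.inl i) * y (Sum.inr i)) * two_eq F

omit [Fintype F] in
theorem Q_add' (x y : 𝕍) : qPlus m (x + y) = qPlus m x + qPlus m y + stdForm m F x y := by
  rw [Q_add, polar_eq]

open Classical in
/-- The Gauss sum on a subspace on whose subspace `W` the form vanishes is carried by `W^⊥`. -/
theorem sum_chi_perp (W : Submodule F 𝕍) (hW : ∀ w ∈ W, qPlus m w = 0) :
    ∑ v : 𝕍, chi (qPlus m v) =
      ∑ v ∈ univ.filter (· ∈ SpUnipotent.orth (stdForm m F) W), chi (qPlus m v) := by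
  have : Fintype W := Fintype.ofFinite W
  have hcard : (Fintype.card W : ℤ) ≠ 0 := by exact_mod_cast Fintype.card_ne_zero
  apply mul_left_cancel₀ hcard
  have key : ∀ v : 𝕍, ∑ w : W, chi (qPlus m (v + (w : 𝕍))) =
      if v ∈ SpUnipotent.orth (stdForm m F) W then (Fintype.card W : ℤ) * chi (qPlus m v) else 0 := by
    intro v
    simp only [Q_add', chi_add, fun w : W => hW _ w.2, chi_zero, mul_one]
    split_ifs with hv
    · have h0 : ∀ w : W, stdForm m F v (w : 𝕍) = 0 := fun w =>
        (isSympForm_stdForm m F).comm_eq_zero.mp (mem_orth.mp hv _ w.2)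
      simp [h0, chi_zero]
    · obtain ⟨w₀, hw₀, hne⟩ : ∃ w ∈ W, stdForm m F v w ≠ 0 := by
        by_contra hall
        push Not at hall
        exact hv (mem_orth.mpr fun w hw => (isSympForm_stdForm m F).comm_eq_zero.mp (hall w hw))
      obtain ⟨c, hc⟩ := exists_chi_neg (F := F)
      rw [← Finset.mul_sum, sum_eq_zero_of_flip _
        (⟨(c / stdForm m F v w₀) • w₀, W.smul_mem _ hw₀⟩ : W) fun w => ?_, mul_zero]
      rw [Submodule.coe_add, map_add, chi_add, map_smul, smul_eq_mul, div_mul_cancel₀ _ hne, hc]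
      ring
  calc (Fintype.card W : ℤ) * ∑ v : 𝕍, chi (qPlus m v)
      = ∑ w : W, ∑ v : 𝕍, chi (qPlus m (v + (w : 𝕍))) := by
        rw [Finset.sum_congr rfl fun (w : W) _ => Fintype.sum_equiv (Equiv.addRight (w : 𝕍))
          (fun v => chi (qPlus m (v + (w : 𝕍)))) (fun v => chi (qPlus m v)) fun v => rfl,
          Finset.sum_const, Finset.card_univ, nsmul_eq_mul]
    _ = (Fintype.card W : ℤ) * ∑ v ∈ univ.filter (· ∈ SpUnipotent.orth (stdForm m F) W), chi (qPlus m v) := by
        rw [Finset.sum_comm, Finset.sum_congr rfl fun v _ => key v, ← Finset.sum_filter,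
          Finset.mul_sum]

open Classical in
theorem sum_chi : ∑ v : 𝕍, chi (qPlus m v) = (Fintype.card F : ℤ) ^ m := by
  let U : Submodule F 𝕍 := LinearMap.ker (LinearMap.funLeft F F (Sum.inr : Fin m → Fin m ⊕ Fin m))
  have hU : ∀ v, v ∈ U ↔ ∀ i, v (Sum.inr i) = 0 := fun v => by
    simp [U, funext_iff, LinearMap.funLeft]
  have hQ : ∀ v ∈ U, qPlus m v = 0 := fun v hv => by
    rw [qPlus_apply]; exact Finset.sum_eq_zero fun i _ => by rw [(hU v).mp hv i, mul_zero]
  have hUU : ∀ v, v ∈ SpUnipotent.orth (stdForm m F) U ↔ v ∈ U := by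
    intro v
    constructor
    · intro hv
      refine (hU v).mpr fun i => ?_
      have h := mem_orth.mp hv (Pi.single (Sum.inl i) 1) ((hU _).mpr fun j => by simp)
      rw [stdForm_apply, Finset.sum_eq_single i] at h
      · simpa using h
      · intro j _ hj; simp [hj]
      · simp
    · intro hv
      refine mem_orth.mpr fun w hw => ?_
      rw [stdForm_apply]
      exact Finset.sum_eq_zero fun i _ => by rw [(hU v).mp hv i, (hU w).mp hw i]; ring
  rw [sum_chi_perp U hQ]
  rw [Finset.filter_congr fun v _ => hUU v, Finset.sum_congr rfl fun v hv => by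
    rw [hQ v (mem_filter.mp hv).2, chi_zero], Finset.sum_const, nsmul_eq_mul, mul_one]
  have hs : Function.Surjective
      (LinearMap.funLeft F F (Sum.inr : Fin m → Fin m ⊕ Fin m)) :=
    LinearMap.funLeft_surjective_of_injective F F _ Sum.inr_injective
  have hd := LinearMap.finrank_range_add_finrank_ker
    (LinearMap.funLeft F F (Sum.inr : Fin m → Fin m ⊕ Fin m))
  rw [LinearMap.range_eq_top.mpr hs, finrank_top, finrank_std, Module.finrank_fin_fun] at hd
  have hc : (univ.filter (· ∈ U)).card = Fintype.card F ^ m := by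
    rw [← Fintype.card_subtype, ← Nat.card_eq_fintype_card, ← Nat.card_eq_fintype_card,
      Module.natCard_eq_pow_finrank (K := F)]
    congr 1
    have hdU : finrank F U = finrank F
        (LinearMap.ker (LinearMap.funLeft F F (Sum.inr : Fin m → Fin m ⊕ Fin m))) := rfl
    omega
  rw [hc]
  push_cast
  rfl

/-- `Q + B(v,·)²` is isometric to `Q` exactly when `Q v ∈ {y + y²}`. -/
theorem exists_shift_iff (v : 𝕍) :
    (∃ g : Isom (stdForm m F), ∀ x, qPlus m (g • x) = qPlus m x + stdForm m F v x * stdForm m F v x)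
      ↔ chi (qPlus m v) = 1 := by
  constructor
  · rintro ⟨g, hg⟩
    have h1 : ∑ x : 𝕍, chi (qPlus m (g • x)) = (Fintype.card F : ℤ) ^ m := by
      rw [← sum_chi]
      exact Fintype.sum_equiv (MulAction.toPerm g) _ _ fun x => rfl
    have h2 : ∑ x : 𝕍, chi (qPlus m (g • x)) = chi (qPlus m v) * (Fintype.card F : ℤ) ^ m := by
      rw [← sum_chi, Finset.mul_sum]
      refine Fintype.sum_equiv (Equiv.addRight v) _ _ fun x => ?_
      rw [hg, chi_add, chi_sq, Equiv.coe_addRight, Q_add', chi_add, chi_add,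
        (isSympForm_stdForm m F).swap x v, CharTwo.neg_eq]
      rcases chi_eq_one_or (qPlus m v) with h | h <;> rw [h] <;> ring
    have hpos : (Fintype.card F : ℤ) ^ m ≠ 0 :=
      pow_ne_zero _ (by exact_mod_cast Fintype.card_ne_zero)
    exact mul_right_cancel₀ hpos (h2.symm.trans (h1.trans (one_mul _).symm))
  · intro h
    obtain ⟨y, hy⟩ := chi_eq_one_iff.mp h
    obtain ⟨c, hc⟩ : ∃ c : F, c + c * c * qPlus m v = 1 := by
      by_cases h0 : qPlus m v = 0
      · exact ⟨1, by rw [h0]; ring⟩
      · refine ⟨y / qPlus m v, ?_⟩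
        field_simp
        linear_combination hy
    refine ⟨transv (isSympForm_stdForm m F) v c, fun x => ?_⟩
    rw [transv_smul, Q_add', Q_smul, map_smul, smul_eq_mul, (isSympForm_stdForm m F).swap x v,
      CharTwo.neg_eq]
    linear_combination (stdForm m F v x * stdForm m F v x) * hc

/-- The square defect of a symplectic map is the square of a unique `B(v,·)`. -/
theorem exists_shift (g : Isom (stdForm m F)) :
    ∃ v : 𝕍, ∀ x, qPlus m (g • x) = qPlus m x + stdForm m F v x * stdForm m F v x := by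
  have hsq : ∀ x, ∃ d : F, d * d = qPlus m (g • x) + qPlus m x := fun x =>
    Char2Inv.Orth.sqrt_exists _
  choose l hl using hsq
  have inj : ∀ a b : F, a * a = b * b → a = b := fun a b h => by
    have : (a + b) * (a + b) = 0 := by linear_combination h + (b * b + a * b) * two_eq F
    exact CharTwo.add_eq_zero.mp (mul_self_eq_zero.mp this)
  let L : 𝕍 →ₗ[F] F :=
    { toFun := l
      map_add' := fun x y => inj _ _ (by
        rw [hl, smul_add, Q_add', Q_add', isom_apply_smul]
        linear_combination stdForm m F x y * two_eq F - hl x - hl y - (l x * l y) * two_eq F)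
      map_smul' := fun a x => inj _ _ (by
        rw [hl, isom_smul_smul, Q_smul, Q_smul, RingHom.id_apply, smul_eq_mul]
        linear_combination -(a * a) * hl x) }
  obtain ⟨e, he⟩ := exists_flipEquiv (β := stdForm m F) (isSympForm_stdForm m F).nondeg
  refine ⟨e.symm L, fun x => ?_⟩
  rw [← he, e.apply_symm_apply]
  show _ = qPlus m x + l x * l x
  rw [hl]
  linear_combination -(qPlus m x) * two_eq F

theorem shift_unique {v v' : 𝕍}
    (h : ∀ x, stdForm m F v x * stdForm m F v x = stdForm m F v' x * stdForm m F v' x) :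
    v = v' := by
  refine sub_eq_zero.mp ((isSympForm_stdForm m F).nondeg _ fun x => ?_)
  rw [map_sub, LinearMap.sub_apply]
  refine mul_self_eq_zero.mp ?_
  linear_combination h x + (stdForm m F v' x * stdForm m F v' x -
    stdForm m F v x * stdForm m F v' x) * two_eq F

variable {Nl : (Fin m ⊕ Fin m → F) →ₗ[F] (Fin m ⊕ Fin m → F)}

theorem isom_add_N (hN : IsSqZero (polar (qPlus (F := F) m)) Nl) (hI : ∀ x : 𝕍, qPlus m (x + Nl x) = qPlus m x)
    (x y : 𝕍) : stdForm m F (x + Nl x) (y + Nl y) = stdForm m F x y := by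
  have h := hI (x + y)
  rw [Nl.map_add, show x + y + (Nl x + Nl y) = x + Nl x + (y + Nl y) by abel, Q_add', Q_add' x y, hI,
    hI] at h
  exact add_left_cancel h

/-- The vectors giving the forms in the orbit of the centraliser. -/
abbrev Shifts (Nl : 𝕍 →ₗ[F] 𝕍) := {v : 𝕍 // Nl v = 0 ∧ chi (qPlus m v) = 1}

/-- The symplectic centraliser. -/
abbrev SpC (Nl : 𝕍 →ₗ[F] 𝕍) := {g : Isom (stdForm m F) // ∀ x : 𝕍, g • Nl x = Nl (g • x)}

/-- The orthogonal centraliser. -/
abbrev OC (Nl : 𝕍 →ₗ[F] 𝕍) :=
  {g : Isom (stdForm m F) // (∀ x : 𝕍, g • Nl x = Nl (g • x)) ∧ ∀ x : 𝕍, qPlus m (g • x) = qPlus m x}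

theorem card_spC (hN : IsSqZero (polar (qPlus (F := F) m)) Nl)
    (hI : ∀ x : 𝕍, qPlus m (x + Nl x) = qPlus m x) :
    Nat.card (SpC Nl) = Nat.card (Shifts Nl) * Nat.card (OC Nl) := by
  have hB := isSympForm_stdForm m F
  have hadj : ∀ a b, stdForm m F (Nl a) b = stdForm m F a (Nl b) := fun a b => by
    rw [← polar_eq, ← polar_eq]; exact hN.adj a b
  have hT : ∀ (g : SpC Nl) (v : 𝕍),
      (∀ x, qPlus m (g.1 • x) = qPlus m x + stdForm m F v x * stdForm m F v x) →
      Nl v = 0 ∧ chi (qPlus m v) = 1 := by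
    intro g v hv
    refine ⟨hB.nondeg _ fun x => ?_, (exists_shift_iff v).mp ⟨g.1, hv⟩⟩
    have h1 := hv (x + Nl x)
    rw [smul_add, g.2, hI, hI, hv, map_add] at h1
    rw [hadj]
    refine mul_self_eq_zero.mp ?_
    linear_combination -h1 - (stdForm m F v x * stdForm m F v (Nl x)) * two_eq F
  have hsec : ∀ v : Shifts Nl, ∃ g : SpC Nl,
      ∀ x, qPlus m (g.1 • x) = qPlus m x + stdForm m F v.1 x * stdForm m F v.1 x := by
    rintro ⟨v, hv, hchi⟩
    obtain ⟨g₀, hg₀⟩ := (exists_shift_iff v).mpr hchi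
    let G : 𝕍 ≃ₗ[F] 𝕍 := g₀.1
    let N' : 𝕍 →ₗ[F] 𝕍 := G.toLinearMap.comp (Nl.comp G.symm.toLinearMap)
    have hN'G : ∀ y, N' (g₀ • y) = g₀ • Nl y := fun y => by
      show G (Nl (G.symm (G y))) = G (Nl y)
      rw [G.symm_apply_apply]
    have hpol : ∀ a b : 𝕍, polar (qPlus (F := F) m) (g₀ • a) (g₀ • b) =
        polar (qPlus (F := F) m) a b := fun a b => by
      rw [polar_eq, polar_eq, isom_apply_smul]
    have hsurj : ∀ a : 𝕍, ∃ b : 𝕍, g₀ • b = a := fun a => ⟨g₀⁻¹ • a, smul_inv_smul _ _⟩
    have hNsq : IsSqZero (polar (qPlus (F := F) m)) N' := by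
      constructor
      · intro a
        obtain ⟨b, rfl⟩ := hsurj a
        rw [hN'G, hN'G, hN.sq, smul_zero]
      · intro a b
        obtain ⟨a', rfl⟩ := hsurj a
        obtain ⟨b', rfl⟩ := hsurj b
        rw [hN'G, hN'G, hpol, hpol]
        exact hN.adj a' b'
    have hI' : ∀ a, qPlus m (a + N' a) = qPlus m a := by
      intro a
      obtain ⟨b, rfl⟩ := hsurj a
      rw [hN'G, ← smul_add, hg₀, hg₀, hI, map_add, ← hadj v b, hv, map_zero, LinearMap.zero_apply,
        add_zero]
    have hr : finrank F (LinearMap.range Nl) = finrank F (LinearMap.range N') := by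
      rw [← LinearEquiv.finrank_map_eq G, ← LinearMap.range_comp,
        show N' = (G.toLinearMap.comp Nl).comp G.symm.toLinearMap from rfl,
        LinearMap.range_comp_of_range_eq_top _ G.symm.range]
    have ht : (∀ a, polar (qPlus m) a (Nl a) = 0) ↔ ∀ a, polar (qPlus m) a (N' a) = 0 := by
      constructor
      · intro h a
        obtain ⟨b, rfl⟩ := hsurj a
        rw [hN'G, hpol]; exact h b
      · intro h b
        rw [← hpol, ← hN'G]; exact h _
    obtain ⟨h, hh, hhN⟩ := Char2Inv.Orth.exists_conj (qPlus_nondeg m) hN hNsq hI hI' hr ht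
    let k : Isom (stdForm m F) := ⟨h, fun a b => by rw [← polar_eq, ← polar_eq]; exact orth_polar hh a b⟩
    have hk : ∀ a, k • Nl a = N' (k • a) := hhN
    refine ⟨⟨k⁻¹ * g₀, fun x => ?_⟩, fun x => ?_⟩
    · rw [mul_smul, mul_smul, ← hN'G, inv_smul_eq_iff, hk, smul_inv_smul]
    · show qPlus m ((k⁻¹ * g₀) • x) = _
      rw [mul_smul, ← hg₀]
      conv_rhs => rw [← smul_inv_smul k (g₀ • x)]
      exact (hh _).symm
  choose σ hσ using hsec
  rw [← Nat.card_prod]
  refine (Nat.card_eq_of_bijective (fun p : Shifts Nl × OC Nl =>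
    (⟨p.2.1 * (σ p.1).1, fun x => by rw [mul_smul, mul_smul, (σ p.1).2, p.2.2.1]⟩ : SpC Nl))
    ⟨?_, ?_⟩).symm
  · rintro ⟨v, a⟩ ⟨v', a'⟩ e
    have e1 : a.1 * (σ v).1 = a'.1 * (σ v').1 := congrArg Subtype.val e
    obtain rfl : v = v' := Subtype.ext (shift_unique fun x => by
      have h := congrArg (fun k : Isom (stdForm m F) => qPlus m (k • x)) e1
      simp only [mul_smul] at h
      rw [a.2.2, a'.2.2, hσ, hσ] at h
      exact add_left_cancel h)
    exact Prod.ext rfl (Subtype.ext (mul_right_cancel e1))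
  · intro g
    obtain ⟨v, hv⟩ := exists_shift g.1
    let v' : Shifts Nl := ⟨v, hT g v hv⟩
    refine ⟨⟨v', ⟨g.1 * (σ v').1⁻¹, fun x => ?_, fun x => ?_⟩⟩,
      Subtype.ext (inv_mul_cancel_right g.1 _)⟩
    · have h1 := (σ v').2 ((σ v').1⁻¹ • x)
      rw [smul_inv_smul] at h1
      rw [mul_smul, mul_smul, ← g.2, ← h1, inv_smul_smul]
    · obtain ⟨y, rfl⟩ : ∃ y, (σ v').1 • y = x := ⟨(σ v').1⁻¹ • x, smul_inv_smul _ _⟩
      rw [mul_smul, inv_smul_smul, hv, hσ]

theorem ker_eq_orth (hN : IsSqZero (polar (qPlus (F := F) m)) Nl) :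
    LinearMap.ker Nl = SpUnipotent.orth (stdForm m F) (LinearMap.range Nl) := by
  ext v
  rw [LinearMap.mem_ker, mem_orth]
  constructor
  · rintro hv _ ⟨x, rfl⟩
    rw [← polar_eq, hN.adj, hv, polar_zero_right]
  · intro h
    refine qPlus_nondeg m _ fun x => ?_
    rw [hN.adj, polar_comm, polar_eq]
    rw [(isSympForm_stdForm m F).comm_eq_zero]
    rw [(isSympForm_stdForm m F).comm_eq_zero]
    exact h _ ⟨x, rfl⟩

open Classical in
theorem two_mul_card_shifts :
    2 * (Nat.card (Shifts Nl) : ℤ) =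
      Nat.card (LinearMap.ker Nl) + ∑ v ∈ univ.filter (· ∈ LinearMap.ker Nl), chi (qPlus m v) := by
  have h1 : Nat.card (LinearMap.ker Nl) = (univ.filter (· ∈ LinearMap.ker Nl)).card := by
    rw [← Fintype.card_subtype, ← Nat.card_eq_fintype_card]
  have h2 : Nat.card (Shifts Nl) =
      ((univ.filter (· ∈ LinearMap.ker Nl)).filter fun v => chi (qPlus m v) = 1).card := by
    rw [Finset.filter_filter, ← Fintype.card_subtype, ← Nat.card_eq_fintype_card]
    rfl
  rw [h1, h2, Finset.card_filter, Finset.cast_card, Nat.cast_sum, Finset.mul_sum,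
    ← Finset.sum_add_distrib]
  refine Finset.sum_congr rfl fun v _ => ?_
  rcases chi_eq_one_or (qPlus m v) with h | h <;> simp [h]

theorem card_ker_N {s : ℕ} (hs : finrank F (LinearMap.range Nl) = s) :
    Nat.card (LinearMap.ker Nl) = Fintype.card F ^ (2 * m - s) ∧ s ≤ 2 * m := by
  have := LinearMap.finrank_range_add_finrank_ker Nl
  rw [finrank_std, hs] at this
  rw [Module.natCard_eq_pow_finrank (K := F), Nat.card_eq_fintype_card,
    show finrank F (LinearMap.ker Nl) = 2 * m - s by omega]
  exact ⟨rfl, by omega⟩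

open Classical in
theorem card_shifts_nonalt (hN : IsSqZero (polar (qPlus (F := F) m)) Nl) {s : ℕ}
    (hs : finrank F (LinearMap.range Nl) = s) (h : ∃ x : 𝕍, qPlus m (Nl x) ≠ (0 : F)) :
    2 * Nat.card (Shifts Nl) = Fintype.card F ^ (2 * m - s) := by
  have h2 := two_mul_card_shifts (Nl := Nl)
  obtain ⟨x, hx⟩ := h
  obtain ⟨c, hc⟩ := exists_chi_neg (F := F)
  obtain ⟨d, hd⟩ := Char2Inv.Orth.sqrt_exists (c / qPlus m (Nl x))
  have hmem : d • Nl x ∈ LinearMap.ker Nl := by
    rw [LinearMap.mem_ker, map_smul, hN.sq, smul_zero]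
  have hz : ∑ v ∈ univ.filter (· ∈ LinearMap.ker Nl), chi (qPlus m v) = 0 := by
    rw [Finset.sum_subtype (p := (· ∈ LinearMap.ker Nl)) _ (fun v => by simp)]
    refine sum_eq_zero_of_flip _ ⟨d • Nl x, hmem⟩ fun v => ?_
    have hperp : stdForm m F (v : 𝕍) (d • Nl x) = 0 := by
      rw [map_smul, ← polar_eq, ← hN.adj, LinearMap.mem_ker.mp v.2, polar_zero_left, smul_zero]
    rw [Submodule.coe_add, Q_add', hperp, add_zero, chi_add, Q_smul, hd, div_mul_cancel₀ _ hx, hc]
    ring
  rw [hz, add_zero, (card_ker_N hs).1] at h2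
  exact_mod_cast h2

open Classical in
theorem card_shifts_alt (hN : IsSqZero (polar (qPlus (F := F) m)) Nl) {s : ℕ}
    (hs : finrank F (LinearMap.range Nl) = s) (h : ∀ x : 𝕍, qPlus m (Nl x) = (0 : F)) :
    2 * Nat.card (Shifts Nl) = Fintype.card F ^ (2 * m - s) + Fintype.card F ^ m := by
  have h2 := two_mul_card_shifts (Nl := Nl)
  have hW := sum_chi_perp (LinearMap.range Nl) (by rintro _ ⟨x, rfl⟩; exact h x)
  rw [sum_chi, Finset.filter_congr fun v _ => by rw [← ker_eq_orth hN]] at hW
  rw [← hW, (card_ker_N hs).1] at h2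
  exact_mod_cast h2

/-! ### The centraliser inside the orthogonal and Omega groups -/

variable (x : ↥(Cfsg.isometryGroup F (Cfsg.quadFormPlus m F)))

/-- `x - 1`. -/
def nilp : 𝕍 →ₗ[F] 𝕍 :=
  (((x : GL (Fin m ⊕ Fin m) F) : Matrix (Fin m ⊕ Fin m) (Fin m ⊕ Fin m) F) - 1).mulVecLin

omit [Fintype F] in
theorem form_eq (v : 𝕍) : Cfsg.quadFormPlus m F v = qPlus m v :=
  Char2Inv.OrthMatrix.quadFormPlus_eq m v

/-- The centraliser of `x` in the orthogonal group. -/
noncomputable def cent : Subgroup (Forms.orth (qPlus (F := F) m)) :=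
  Subgroup.centralizer {isoOrth (qPlus m) form_eq x}

omit [Fintype F] in
theorem mem_cent_iff (g : Forms.orth (qPlus (F := F) m)) :
    g ∈ cent x ↔ ∀ v, g.1 (nilp x v) = nilp x (g.1 v) := by
  rw [cent, Subgroup.mem_centralizer_singleton_iff]
  have hn : ∀ v, nilp x v = (isoOrth (qPlus m) form_eq x).1 v - v := fun v => by
    rw [isoOrth_apply, nilp, Matrix.mulVecLin_apply, Matrix.sub_mulVec, Matrix.one_mulVec]
  constructor
  · intro h v
    rw [hn, hn, map_sub]
    congr 1
    exact LinearEquiv.congr_fun (congrArg Subtype.val h) v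
  · intro h
    refine Subtype.ext (LinearEquiv.ext fun v => ?_)
    have := h v
    rw [hn, hn, map_sub, sub_left_inj] at this
    exact this

theorem omega_map (h : Fintype.card F ≠ 2 ∨ m ≠ 2) (hm : 1 ≤ m)
    (g : ↥(Cfsg.isometryGroup F (Cfsg.quadFormPlus m F))) :
    g ∈ Cfsg.Omega F (Cfsg.quadFormPlus m F) ↔
      dickson (qPlus (F := F) m) (isoOrth (qPlus m) form_eq g) = 0 := by
  have hQ := qPlus_nondeg (F := F) m
  have hh : (∃ a : F, a ≠ 0 ∧ a ≠ 1) ∨ finrank F 𝕍 ≠ 4 := by
    rcases h with h | h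
    · refine Or.inl ?_
      classical
      have : ({0, 1} : Finset F).card < (univ : Finset F).card := by
        rw [Finset.card_pair zero_ne_one, Finset.card_univ]
        have := Fintype.one_lt_card (α := F)
        omega
      obtain ⟨a, -, ha⟩ := Finset.exists_mem_notMem_of_card_lt_card this
      simp only [Finset.mem_insert, Finset.mem_singleton, not_or] at ha
      exact ⟨a, ha⟩
    · exact Or.inr (by rw [finrank_std]; omega)
  have hidx := Forms.index_commutator_two hQ (two_eq F) (by rw [finrank_std]; omega) hh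
  set D := dicksonHom hQ hh with hD
  have hle : commutator (Forms.orth (qPlus (F := F) m)) ≤ D.ker := Abelianization.commutator_subset_ker D
  have hker : commutator (Forms.orth (qPlus (F := F) m)) = D.ker := by
    refine le_antisymm hle (Subgroup.relIndex_eq_one.mp ?_)
    have hne : D.ker.index ≠ 1 := by
      rw [Ne, Subgroup.index_eq_one]
      intro htop
      obtain ⟨v, hv⟩ := Forms.exists_Q_eq hQ (by rw [finrank_std]; omega) 1
      have h1 : orefl (qPlus m) v ∈ D.ker := htop ▸ Subgroup.mem_top _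
      rw [MonoidHom.mem_ker] at h1
      have h2 : dickson (qPlus (F := F) m) (orefl (qPlus m) v) = 0 := Multiplicative.ofAdd.injective h1
      rw [dickson_orefl hQ (by rw [hv]; exact one_ne_zero)] at h2
      exact one_ne_zero h2
    have hmul := Subgroup.relIndex_mul_index hle
    rw [hidx] at hmul
    rcases (Nat.dvd_prime Nat.prime_two).mp (Dvd.intro_left _ hmul) with h1 | h1
    · exact absurd h1 hne
    · rw [h1] at hmul; omega
  have hmap : (commutator ↥(Cfsg.isometryGroup F (Cfsg.quadFormPlus m F))).map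
      (isoOrth (qPlus m) form_eq).toMonoidHom = commutator (Forms.orth (qPlus (F := F) m)) := by
    rw [commutator_def, Subgroup.map_commutator, Subgroup.map_top_of_surjective _
      (isoOrth (qPlus m) form_eq).surjective, ← commutator_def]
  refine (Subgroup.mem_map_iff_mem (f := (isoOrth (qPlus m) form_eq).toMonoidHom)
    (isoOrth (qPlus m) form_eq).injective).symm.trans ?_
  rw [hmap, hker, MonoidHom.mem_ker]
  exact ⟨fun h => Multiplicative.ofAdd.injective h, fun h => congrArg Multiplicative.ofAdd h⟩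

/-- The elements of `Ω` commuting with `x`. -/
abbrev OmC := {g : ↥(Cfsg.Omega F (Cfsg.quadFormPlus m F)) //
  (g : ↥(Cfsg.isometryGroup F (Cfsg.quadFormPlus m F))) * x =
    x * (g : ↥(Cfsg.isometryGroup F (Cfsg.quadFormPlus m F)))}

/-- The elements of even Dickson invariant in `cent x`. -/
abbrev EvenC := {g : cent x // dickson (qPlus (F := F) m) (g : Forms.orth (qPlus (F := F) m)) = 0}

theorem card_omC (h : Fintype.card F ≠ 2 ∨ m ≠ 2) (hm : 1 ≤ m) :
    Nat.card (OmC x) = Nat.card (EvenC x) := by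
  refine Nat.card_congr
    { toFun := fun g => ⟨⟨isoOrth (qPlus m) form_eq g.1.1, by
          rw [cent, Subgroup.mem_centralizer_singleton_iff, ← map_mul, ← map_mul, g.2]⟩,
        (omega_map h hm g.1.1).mp g.1.2⟩
      invFun := fun g => ⟨⟨(isoOrth (qPlus m) form_eq).symm g.1.1, (omega_map h hm _).mpr (by
          rw [MulEquiv.apply_symm_apply]; exact g.2)⟩, by
        apply (isoOrth (qPlus m) form_eq).injective
        rw [map_mul, map_mul, MulEquiv.apply_symm_apply]
        exact Subgroup.mem_centralizer_singleton_iff.mp g.1.2⟩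
      left_inv := fun g => Subtype.ext (Subtype.ext ((isoOrth _ _).symm_apply_apply _))
      right_inv := fun g => Subtype.ext (Subtype.ext ((isoOrth _ _).apply_symm_apply _)) }

theorem card_cent : Nat.card (cent x) = Nat.card (OC (nilp x)) :=
  Nat.card_congr
    { toFun := fun g => ⟨⟨g.1.1, fun a b => by
          rw [← polar_eq, ← polar_eq]; exact orth_polar g.1.2 a b⟩,
        (mem_cent_iff x g.1).mp g.2, g.1.2⟩
      invFun := fun g => ⟨⟨g.1.1, g.2.2⟩, (mem_cent_iff x _).mpr g.2.1⟩
      left_inv := fun g => rfl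
      right_inv := fun g => rfl }

theorem card_evenC_of_reflection (h : Fintype.card F ≠ 2 ∨ m ≠ 2)
    (hN : IsSqZero (polar (qPlus (F := F) m)) (nilp x)) {z : 𝕍} (hz : nilp x z = 0)
    (hQz : qPlus m z ≠ 0) :
    Nat.card (cent x) = 2 * Nat.card (EvenC x) := by
  have hh : (∃ a : F, a ≠ 0 ∧ a ≠ 1) ∨ finrank F 𝕍 ≠ 4 := by
    rcases h with h | h
    · refine Or.inl ?_
      classical
      have : ({0, 1} : Finset F).card < (univ : Finset F).card := by
        rw [Finset.card_pair zero_ne_one, Finset.card_univ]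
        have := Fintype.one_lt_card (α := F)
        omega
      obtain ⟨a, -, ha⟩ := Finset.exists_mem_notMem_of_card_lt_card this
      simp only [Finset.mem_insert, Finset.mem_singleton, not_or] at ha
      exact ⟨a, ha⟩
    · exact Or.inr (by rw [finrank_std]; omega)
  set D := (dicksonHom (qPlus_nondeg (F := F) m) hh).comp (cent x).subtype
  have hr : orefl (qPlus m) z ∈ cent x := by
    rw [mem_cent_iff]
    intro v
    show refl (qPlus m) z (nilp x v) = nilp x (refl (qPlus m) z v)
    rw [refl_apply, refl_apply, map_sub, map_smul, hz, smul_zero, sub_zero,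
      show polar (qPlus m) z (nilp x v) = 0 by rw [← hN.adj, hz, polar_zero_left], mul_zero,
      zero_smul, sub_zero]
  have hsurj : Function.Surjective D := by
    intro a
    obtain ⟨b, rfl⟩ := Multiplicative.ofAdd.surjective a
    have key : ∀ b : ZMod 2, b = 0 ∨ b = 1 := by decide
    rcases key b with rfl | rfl
    · exact ⟨1, map_one D⟩
    · refine ⟨⟨_, hr⟩, ?_⟩
      show Multiplicative.ofAdd (dickson (qPlus (F := F) m) (orefl (qPlus m) z)) = _
      rw [dickson_orefl (qPlus_nondeg m) hQz]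
  have hcard : Nat.card (EvenC x) = Nat.card D.ker := by
    refine Nat.card_congr (Equiv.subtypeEquivRight fun g => ?_)
    rw [MonoidHom.mem_ker]
    exact ⟨fun h => congrArg Multiplicative.ofAdd h, fun h => Multiplicative.ofAdd.injective h⟩
  have := D.ker.card_mul_index
  rw [Subgroup.index_ker, MonoidHom.range_eq_top.mpr hsurj, Subgroup.card_top,
    Nat.card_eq_fintype_card (α := Multiplicative (ZMod 2))] at this
  rw [hcard, ← this, mul_comm]
  rfl

theorem card_evenC_of_max (hN : IsSqZero (polar (qPlus (F := F) m)) (nilp x))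
    (halt : ∀ v, qPlus m (nilp x v) = 0) (hs : finrank F (LinearMap.range (nilp x)) = m) :
    Nat.card (cent x) = Nat.card (EvenC x) := by
  refine (Nat.card_congr (Equiv.subtypeUnivEquiv fun g => ?_)).symm
  refine Char2Inv.OrthOmega.dickson_stabiliser (qPlus_nondeg m) (finrank_std m F)
    (U := LinearMap.range (nilp x)) (by rintro _ ⟨v, rfl⟩; exact halt v) hs g.1 ?_
  have hg := (mem_cent_iff x g.1).mp g.2
  rw [← LinearMap.range_comp, show ((g.1 : Forms.orth (qPlus (F := F) m)).1.toLinearMap).comp (nilp x) =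
      (nilp x).comp (g.1 : Forms.orth (qPlus (F := F) m)).1.toLinearMap from LinearMap.ext hg,
    LinearMap.range_comp_of_range_eq_top _ (g.1 : Forms.orth (qPlus (F := F) m)).1.range]

end Cfsg.Agent.Lib.SpUnipotent.OrthCent
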