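import Cfsg.Agent.Lib.SpUnipotent.OrthCent

/-!
# Centraliser orders of involutions in `Ω⁺_2m(q)`, `q` even: the final formulas
-/

set_option autoImplicit false

namespace Cfsg.Agent.Lib.SpUnipotent.OrthCent

open Module Symplectic QuadraticMap
open Cfsg.Agent.Lib.Char2Inv.Normal (IsSqZero)
open Cfsg.Agent.Lib.Forms (qPlus qPlus_apply qPlus_nondeg)

variable {F : Type*} [Field F] [Fintype F] [CharP F 2] {q m s : ℕ}
  (x : ↥(Cfsg.isometryGroup F (Cfsg.quadFormPlus m F)))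

omit [Fintype F] in
theorem isSqZero_nilp (hx : x ^ 2 = 1) (hx1 : x ≠ 1) :
    IsSqZero (polar (qPlus m)) (nilp x) :=
  Char2Inv.OrthMatrix.nil_isSqZero (qPlus m) form_eq (orderOf_eq_prime hx hx1)

omit [Fintype F] in
theorem nilp_isometry (v : Fin m ⊕ Fin m → F) : qPlus m (v + nilp x v) = qPlus m v :=
  Char2Inv.OrthMatrix.nil_isometry (qPlus m) form_eq x v

/-- The symplectic element of an involution of the orthogonal group. -/
theorem exists_sp (hx : x ^ 2 = 1) (hx1 : x ≠ 1) :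
    ∃ t : Matrix.symplecticGroup (Fin m) F,
      (t : Matrix (Fin m ⊕ Fin m) (Fin m ⊕ Fin m) F) =
        ((x : Matrix.GeneralLinearGroup (Fin m ⊕ Fin m) F) : Matrix (Fin m ⊕ Fin m) (Fin m ⊕ Fin m) F)
      ∧ t ^ 2 = 1 ∧ ∀ v, Cfsg.sympForm m F v
        ((t : Matrix (Fin m ⊕ Fin m) (Fin m ⊕ Fin m) F).mulVec v) = qPlus m (nilp x v) := by
  have hN := isSqZero_nilp x hx hx1
  have hmv : ∀ v, ((x : Matrix.GeneralLinearGroup (Fin m ⊕ Fin m) F) :
      Matrix (Fin m ⊕ Fin m) (Fin m ⊕ Fin m) F).mulVec v = v + nilp x v :=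
    Char2Inv.OrthMatrix.mulVec_eq x
  refine ⟨⟨_, mem_sp_iff.mpr fun a b => by
    rw [hmv, hmv]; exact isom_add_N hN (nilp_isometry x) a b⟩, rfl, ?_, fun v => ?_⟩
  · refine Subtype.ext ?_
    have h := congrArg (fun g : ↥(Cfsg.isometryGroup F (Cfsg.quadFormPlus m F)) =>
      ((g : Matrix.GeneralLinearGroup (Fin m ⊕ Fin m) F) :
        Matrix (Fin m ⊕ Fin m) (Fin m ⊕ Fin m) F)) hx
    simpa [pow_two] using h
  · rw [← stdForm_eq_sympForm, hmv, map_add, (isSympForm_stdForm m F).self, zero_add, ← polar_eq,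
      Char2Inv.Orth.Q_N (nilp_isometry x)]

theorem card_master (hx : x ^ 2 = 1) (hx1 : x ≠ 1) (t : Matrix.symplecticGroup (Fin m) F)
    (ht : (t : Matrix (Fin m ⊕ Fin m) (Fin m ⊕ Fin m) F) =
      ((x : Matrix.GeneralLinearGroup (Fin m ⊕ Fin m) F) : Matrix (Fin m ⊕ Fin m) (Fin m ⊕ Fin m) F)) :
    Nat.card ↥(Subgroup.centralizer ({t} : Set ↥(Matrix.symplecticGroup (Fin m) F))) =
      Nat.card (Shifts (nilp x)) * Nat.card (cent x) := by
  rw [card_centralizer_eq, card_cent, ← card_spC (isSqZero_nilp x hx hx1) (nilp_isometry x)]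
  simp only [ht]
  rfl

theorem one_le_m (hx1 : x ≠ 1) : 1 ≤ m := by
  by_contra h
  obtain rfl : m = 0 := by omega
  exact hx1 (Subtype.ext (Units.ext (Matrix.ext fun i => i.elim Fin.elim0 Fin.elim0)))

/-- The two centralisers when `Q` is non-zero on the image of `x - 1`. -/
theorem card_master_nonalt (hq : Fintype.card F = q) (h : Fintype.card F ≠ 2 ∨ m ≠ 2)
    (hx : x ^ 2 = 1) (hx1 : x ≠ 1) (hs : finrank F (LinearMap.range (nilp x)) = s)
    (hna : ∃ v, qPlus m (nilp x v) ≠ (0 : F)) (t : Matrix.symplecticGroup (Fin m) F)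
    (ht : (t : Matrix (Fin m ⊕ Fin m) (Fin m ⊕ Fin m) F) =
      ((x : Matrix.GeneralLinearGroup (Fin m ⊕ Fin m) F) : Matrix (Fin m ⊕ Fin m) (Fin m ⊕ Fin m) F)) :
    Nat.card ↥(Subgroup.centralizer ({t} : Set ↥(Matrix.symplecticGroup (Fin m) F))) =
      q ^ (2 * m - s) * Nat.card (OmC x) := by
  have hN := isSqZero_nilp x hx hx1
  obtain ⟨v, hv⟩ := hna
  rw [card_master x hx hx1 t ht, card_omC x h (one_le_m x hx1),
    card_evenC_of_reflection x h hN (z := nilp x v) (hN.sq v) hv, ← hq,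
    ← card_shifts_nonalt hN hs ⟨v, hv⟩]
  ring

/-- The two centralisers when `Q` vanishes on the image of `x - 1`. -/
theorem card_master_alt (hq : Fintype.card F = q) (h : Fintype.card F ≠ 2 ∨ m ≠ 2)
    (hx : x ^ 2 = 1) (hx1 : x ≠ 1) (hs : finrank F (LinearMap.range (nilp x)) = s)
    (halt : ∀ v, qPlus m (nilp x v) = (0 : F)) (hsm : s ≤ m)
    (t : Matrix.symplecticGroup (Fin m) F)
    (ht : (t : Matrix (Fin m ⊕ Fin m) (Fin m ⊕ Fin m) F) =
      ((x : Matrix.GeneralLinearGroup (Fin m ⊕ Fin m) F) : Matrix (Fin m ⊕ Fin m) (Fin m ⊕ Fin m) F)) :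
    Nat.card ↥(Subgroup.centralizer ({t} : Set ↥(Matrix.symplecticGroup (Fin m) F))) =
      q ^ m * (if s = m then 1 else q ^ (m - s) + 1) * Nat.card (OmC x) := by
  have hN := isSqZero_nilp x hx hx1
  rw [card_master x hx hx1 t ht, card_omC x h (one_le_m x hx1)]
  have h2 := card_shifts_alt hN hs halt
  rw [hq] at h2
  apply Nat.eq_of_mul_eq_mul_left (show 0 < 2 by norm_num)
  rw [← mul_assoc, h2]
  split_ifs with he
  · rw [card_evenC_of_max x hN halt (hs.trans he), he, show 2 * m - m = m by omega]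
    ring
  · obtain ⟨z, hz, hQz⟩ := Char2Inv.OrthMatrixOmega.exists_nonsingular_fixed (qPlus (F := F) m)
      (m := m) (qPlus_nondeg m) (by simp; ring) hN.sq (fun hh => he (hs ▸ hh.1))
    rw [card_evenC_of_reflection x h hN hz hQz, show 2 * m - s = m + (m - s) by omega, pow_add]
    ring

end Cfsg.Agent.Lib.SpUnipotent.OrthCent
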