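import Cfsg.Agent.Lib.Symplectic.Order

/-!
# Isometry groups of non-alternating symmetric forms in characteristic two

If `β` is a nondegenerate symmetric form over a finite field of characteristic two with
`β x x = (β u x)²`, then its isometry group is `Sp_(n-1)` when `β u u = 1`, and an extension of
`Sp_(n-2)` by a group of order `q^(n-1)` when `β u u = 0`.
-/

set_option autoImplicit false

namespace Cfsg.Agent.Lib.SpUnipotent

open Module Symplectic

variable {F : Type*} {U : Type*} [Field F] [AddCommGroup U] [Module F U] [FiniteDimensional F U]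
variable {β : U →ₗ[F] U →ₗ[F] F}

/-- Maps preserving a nondegenerate form are isometries. -/
noncomputable def isomEquivMap (hnd : ∀ x, (∀ y, β x y = 0) → x = 0) :
    Isom β ≃ {f : U →ₗ[F] U // ∀ x y, β (f x) (f y) = β x y} where
  toFun g := ⟨(g : U ≃ₗ[F] U).toLinearMap, g.2⟩
  invFun f := ⟨LinearEquiv.ofInjectiveEndo f.1 ((injective_iff_map_eq_zero f.1).mpr fun x hx =>
    hnd x fun y => by rw [← f.2, hx, map_zero, LinearMap.zero_apply]), fun x y => f.2 x y⟩
  left_inv g := isom_ext fun x => rfl
  right_inv f := Subtype.ext (LinearMap.ext fun x => rfl)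

theorem coe_isomEquivMap_symm (hnd : ∀ x, (∀ y, β x y = 0) → x = 0)
    (f : {f : U →ₗ[F] U // ∀ x y, β (f x) (f y) = β x y}) (x : U) :
    (isomEquivMap hnd).symm f • x = f.1 x := rfl

variable [CharP F 2]
variable (hsym : ∀ x y, β x y = β y x) (hnd : ∀ x, (∀ y, β x y = 0) → x = 0) {u : U}
  (hu : ∀ x, β x x = β u x ^ 2)

include hsym hnd hu in
omit [FiniteDimensional F U] in
theorem fix_u (g : Isom β) : g • u = u := by
  refine sub_eq_zero.mp (hnd _ fun y => ?_)
  rw [map_sub, LinearMap.sub_apply, sub_eq_zero]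
  have h : β (g • u) y ^ 2 = β u y ^ 2 := by
    rw [isom_apply_smul_left, ← hu, isom_apply_smul, hu]
  have : (β (g • u) y - β u y) ^ 2 = 0 := by
    linear_combination h + (β u y ^ 2 - β (g • u) y * β u y) * CharTwo.two_eq_zero (R := F)
  exact sub_eq_zero.mp (pow_eq_zero_iff two_ne_zero |>.mp this)

section Odd

variable (huu : β u u = 1)

include hu in
omit [FiniteDimensional F U] in
theorem isSympForm_odd (hnd : ∀ x, (∀ y, β x y = 0) → x = 0) (hsym : ∀ x y, β x y = β y x)
    (huu : β u u = 1) : IsSympForm (restr β (LinearMap.ker (β u))) where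
  self x := by
    show β (x : U) (x : U) = 0
    rw [hu, LinearMap.mem_ker.mp x.2, zero_pow two_ne_zero]
  nondeg x hx := by
    refine Subtype.ext (hnd _ fun y => ?_)
    have h := hx ⟨y - β u y • u, by simp [huu]⟩
    change β (x : U) (y - β u y • u) = 0 at h
    rw [map_sub, map_smul, hsym (x : U) u, LinearMap.mem_ker.mp x.2, smul_zero, sub_zero] at h
    exact h

include hsym hnd hu huu in
theorem card_isom_odd :
    Nat.card (Isom β) = Nat.card (Isom (restr β (LinearMap.ker (β u)))) := by
  have hsp := isSympForm_odd hu hnd hsym huu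
  have hmem : ∀ (g : Isom β) (x : U), x ∈ LinearMap.ker (β u) → g • x ∈ LinearMap.ker (β u) := by
    intro g x hx
    rw [LinearMap.mem_ker, ← fix_u hsym hnd hu g, isom_apply_smul]
    exact LinearMap.mem_ker.mp hx
  refine Nat.card_eq_of_bijective
    (fun g => (isomEquivMap hsp.nondeg).symm
      ⟨(g : U ≃ₗ[F] U).toLinearMap.restrict (hmem g), fun x y => g.2 _ _⟩) ⟨?_, ?_⟩
  · intro g h e
    refine isom_ext fun x => ?_
    have e' : g • (x - β u x • u) = h • (x - β u x • u) :=
      congrArg (fun k : Isom (restr β (LinearMap.ker (β u))) =>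
        ((k • (⟨x - β u x • u, by simp [huu]⟩ : LinearMap.ker (β u)) : LinearMap.ker (β u)) : U)) e
    rwa [smul_sub, smul_sub, smul_comm g, smul_comm h, fix_u hsym hnd hu g, fix_u hsym hnd hu h,
      sub_left_inj] at e'
  · intro k
    let pr : U →ₗ[F] LinearMap.ker (β u) :=
      (LinearMap.id - (β u).smulRight u).codRestrict _ fun x => by simp [huu]
    let f : U →ₗ[F] U := (β u).smulRight u +
      (LinearMap.ker (β u)).subtype.comp ((k : _ ≃ₗ[F] _).toLinearMap.comp pr)
    have hf : ∀ x, f x = β u x • u + ((k • pr x : LinearMap.ker (β u)) : U) := fun x => rfl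
    have hpr : ∀ x, (pr x : U) = x - β u x • u := fun x => rfl
    have hiso : ∀ x y, β (f x) (f y) = β x y := by
      intro x y
      have hk : β ((k • pr x : LinearMap.ker (β u)) : U) ((k • pr y : LinearMap.ker (β u)) : U) =
          β (pr x : U) (pr y : U) := isom_apply_smul k (pr x) (pr y)
      simp only [hf, map_add, map_smul, LinearMap.add_apply, LinearMap.smul_apply, smul_eq_mul, huu,
        hk, hsym _ u, LinearMap.mem_ker.mp (Subtype.coe_prop _)]
      simp only [hpr, map_sub, map_smul, LinearMap.sub_apply, LinearMap.smul_apply, smul_eq_mul,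
        huu, hsym _ u]
      ring
    refine ⟨(isomEquivMap hnd).symm ⟨f, hiso⟩, isom_ext fun x => Subtype.ext ?_⟩
    show f (x : U) = ((k • x : LinearMap.ker (β u)) : U)
    rw [hf, LinearMap.mem_ker.mp x.2, zero_smul, zero_add,
      show pr (x : U) = x from Subtype.ext (by rw [hpr, LinearMap.mem_ker.mp x.2, zero_smul,
        sub_zero])]

end Odd

section Even

/-- The perpendicular of `u` and `v`. -/
def evenPerp (β : U →ₗ[F] U →ₗ[F] F) (u v : U) : Submodule F U :=
  LinearMap.ker (β u) ⊓ LinearMap.ker (β v)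

variable {v : U} (huu : β u u = 0) (huv : β u v = 1)

include hsym hu huu huv in
omit [FiniteDimensional F U] in
theorem even_facts : β v u = 1 ∧ β v v = 1 ∧ ∀ h : evenPerp β u v,
    β u h = 0 ∧ β v h = 0 ∧ β (h : U) u = 0 ∧ β (h : U) v = 0 := by
  refine ⟨by rw [hsym, huv], by rw [hu, huv, one_pow], fun h => ?_⟩
  obtain ⟨h1, h2⟩ := h.2
  exact ⟨LinearMap.mem_ker.mp h1, LinearMap.mem_ker.mp h2, by
    rw [hsym]; exact LinearMap.mem_ker.mp h1, by rw [hsym]; exact LinearMap.mem_ker.mp h2⟩

include hsym hu huu huv in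
omit [FiniteDimensional F U] in
theorem sub_mem_evenPerp (x : U) :
    x - β u x • v - (β v x - β u x) • u ∈ evenPerp β u v := by
  obtain ⟨hvu, hvv, -⟩ := even_facts hsym hu huu huv
  constructor <;> simp [huu, huv, hvu, hvv]

include hsym hnd hu huu huv in
omit [FiniteDimensional F U] in
theorem isSympForm_even : IsSympForm (restr β (evenPerp β u v)) where
  self x := by
    show β (x : U) (x : U) = 0
    rw [hu, ((even_facts hsym hu huu huv).2.2 x).1, zero_pow two_ne_zero]
  nondeg x hx := by
    refine Subtype.ext (hnd _ fun y => ?_)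
    have h := hx ⟨_, sub_mem_evenPerp hsym hu huu huv y⟩
    obtain ⟨-, -, h3, h4⟩ := (even_facts hsym hu huu huv).2.2 x
    simpa [h3, h4] using h

include hsym hnd hu huu huv in
theorem card_isom_even :
    Nat.card (Isom β) =
      Nat.card {v' : U // β u v' = 1} * Nat.card (Isom (restr β (evenPerp β u v))) := by
  have hsp := isSympForm_even hsym hnd hu huu huv
  obtain ⟨hvu, hvv, hH⟩ := even_facts hsym hu huu huv
  let pr : U →ₗ[F] evenPerp β u v :=
    (LinearMap.id - (β u).smulRight v - (β v - β u).smulRight u).codRestrict _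
      (sub_mem_evenPerp hsym hu huu huv)
  have hpr : ∀ x, (pr x : U) = x - β u x • v - (β v x - β u x) • u := fun x => rfl
  have hprH : ∀ h : evenPerp β u v, pr (h : U) = h := fun h =>
    Subtype.ext (by simp [hpr, (hH h).1, (hH h).2.1])
  have hgH : ∀ (g : Isom β) (h : evenPerp β u v),
      g • (h : U) = (pr (g • (h : U)) : U) + β v (g • (h : U)) • u := by
    intro g h
    have h0 : β u (g • (h : U)) = 0 := by
      conv_lhs => arg 1; arg 2; rw [← fix_u hsym hnd hu g]
      rw [isom_apply_smul]; exact (hH h).1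
    rw [hpr, h0]
    simp
  rw [← Nat.card_prod]
  refine Nat.card_eq_of_bijective (fun g =>
    (⟨g • v, by rw [← fix_u hsym hnd hu g, isom_apply_smul, huv]⟩,
      (isomEquivMap hsp.nondeg).symm ⟨pr.comp ((g : U ≃ₗ[F] U).toLinearMap.comp
        (evenPerp β u v).subtype), fun h h' => ?_⟩)) ⟨?_, ?_⟩
  · show β (pr (g • (h : U)) : U) (pr (g • (h' : U)) : U) = β (h : U) (h' : U)
    conv_rhs => rw [← isom_apply_smul g (h : U) (h' : U), hgH g h, hgH g h']
    simp [huu, (hH _).1, (hH _).2.2.1]
  · intro g g' e
    obtain ⟨e1, e2⟩ := Prod.ext_iff.mp e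
    have e1' : g • v = g' • v := congrArg Subtype.val e1
    have e3 : ∀ h : evenPerp β u v, g • (h : U) = g' • (h : U) := by
      intro h
      have e2' : pr (g • (h : U)) = pr (g' • (h : U)) := congrArg (fun k => k • h) e2
      have key : ∀ k : Isom β, β (k • v) (pr (k • (h : U)) : U) + β v (k • (h : U)) = 0 := by
        intro k
        have h1 := isom_apply_smul k v (h : U)
        rw [(hH h).2.1, hgH k h, LinearMap.map_add, LinearMap.map_smul, smul_eq_mul] at h1
        have h2 : β (k • v) u = 1 := by
          conv_lhs => arg 2; rw [← fix_u hsym hnd hu k]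
          rw [isom_apply_smul, hvu]
        rwa [h2, mul_one] at h1
      have hc : β v (g • (h : U)) = β v (g' • (h : U)) := by
        have a1 := key g
        have a2 := key g'
        rw [e1', e2'] at a1
        linear_combination a1 - a2
      rw [hgH g h, hgH g' h, e2', hc]
    refine isom_ext fun x => ?_
    have hx : x = (pr x : U) + β u x • v + (β v x - β u x) • u := by rw [hpr]; abel
    rw [hx, smul_add, smul_add, smul_add, smul_add, smul_comm g, smul_comm g, smul_comm g',
      smul_comm g', e3, e1', fix_u hsym hnd hu g, fix_u hsym hnd hu g']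
  · rintro ⟨⟨v', hv'⟩, k⟩
    let kp : U →ₗ[F] U :=
      (evenPerp β u v).subtype.comp ((k : _ ≃ₗ[F] _).toLinearMap.comp pr)
    let f : U →ₗ[F] U := (β u).smulRight v' + (β v - β u).smulRight u + kp +
      ((β v').comp kp).smulRight u
    have hkp : ∀ x, kp x = ((k • pr x : evenPerp β u v) : U) := fun x => rfl
    have hf : ∀ x, f x = β u x • v' + (β v x - β u x) • u + kp x + β v' (kp x) • u :=
      fun x => rfl
    have hv'v' : β v' v' = 1 := by rw [hu, hv', one_pow]
    have hiso : ∀ x y, β (f x) (f y) = β x y := by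
      intro x y
      have hk : β (kp x) (kp y) = β (pr x : U) (pr y : U) := isom_apply_smul k (pr x) (pr y)
      have hu0 : ∀ z, β u (kp z) = 0 ∧ β (kp z) u = 0 := fun z => ⟨(hH _).1, (hH _).2.2.1⟩
      simp only [hf, map_add, map_smul, LinearMap.add_apply, LinearMap.smul_apply, smul_eq_mul,
        huu, hv', hv'v', hsym v' u, hk, (hu0 x).2, (hu0 y).1, hsym (kp x) v']
      simp only [hpr, map_sub, map_smul, LinearMap.sub_apply, LinearMap.smul_apply,
        smul_eq_mul, huu, huv, hvu, hvv, hsym x u, hsym x v]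
      linear_combination (β u x * β v' (kp y) + β u y * β v' (kp x)) *
        CharTwo.two_eq_zero (R := F)
    refine ⟨(isomEquivMap hnd).symm ⟨f, hiso⟩, Prod.ext (Subtype.ext ?_) (isom_ext fun h => ?_)⟩
    · show f v = v'
      have : pr v = 0 := Subtype.ext (by simp [hpr, huv, hvv])
      simp [hf, hkp, this, huv, hvv]
    · show pr (f (h : U)) = k • h
      apply Subtype.ext
      simp [hf, hkp, hprH, (hH h).1, (hH h).2.1, hpr, huu, hvu]

end Even

end Cfsg.Agent.Lib.SpUnipotent
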